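import Mathlib
import Cfsg.Prelude.Def_GeometricClasses

/-! Subgroups of order 27 and exponent 3 of the general linear group of dimension three. -/

set_option autoImplicit false
set_option linter.style.haveILetI false

namespace Cfsg.Agent.Extra27

open Matrix

section Group

variable {R : Type*} [Group R] [Finite R]

theorem center_index (hR : Nat.card R = 27) (hna : ¬ IsMulCommutative R) :
    Nat.card (Subgroup.center R) ≠ 1 ∧ (Subgroup.center R).index = 9 := by
  haveI : Fact (Nat.Prime 3) := ⟨Nat.prime_three⟩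
  haveI : Nontrivial R := Finite.one_lt_card_iff_nontrivial.mp (by rw [hR]; norm_num)
  have hp : IsPGroup 3 R := IsPGroup.of_card (n := 3) (by rw [hR]; norm_num)
  haveI := hp.center_nontrivial
  have h1 : Nat.card (Subgroup.center R) ≠ 1 := by
    have := Finite.one_lt_card (α := Subgroup.center R)
    omega
  refine ⟨h1, ?_⟩
  have hmul := (Subgroup.center R).card_mul_index
  have hd : (Subgroup.center R).index ∣ 3 ^ 3 := by
    rw [show (3 : ℕ) ^ 3 = Nat.card R by rw [hR]; norm_num]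
    exact Subgroup.index_dvd_card _
  obtain ⟨j, hj, hji⟩ := (Nat.dvd_prime_pow Nat.prime_three).mp hd
  have hcyc : ¬ IsCyclic (R ⧸ Subgroup.center R) := fun hc => by
    haveI := hc
    exact hna ((QuotientGroup.mk' (Subgroup.center R)).isMulCommutative_of_isCyclic_of_ker_le_center
      (by rw [QuotientGroup.ker_mk']))
  interval_cases j
  · exfalso
    rw [pow_zero] at hji
    apply hna
    have htop : Subgroup.center R = ⊤ := Subgroup.index_eq_one.mp hji
    exact ⟨⟨fun x y => Subgroup.mem_center_iff.mp (htop.symm ▸ Subgroup.mem_top y) x⟩⟩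
  · exfalso
    exact hcyc (isCyclic_of_prime_card (p := 3) (by rw [← Subgroup.index_eq_card, hji]; norm_num))
  · rw [hji]; norm_num
  · exfalso
    rw [hji, hR] at hmul
    apply h1
    omega

theorem commutator_mem_center (hR : Nat.card R = 27) (hna : ¬ IsMulCommutative R) (a b : R) :
    a * b * a⁻¹ * b⁻¹ ∈ Subgroup.center R := by
  haveI : Fact (Nat.Prime 3) := ⟨Nat.prime_three⟩
  have hcard : Nat.card (R ⧸ Subgroup.center R) = 3 ^ 2 := by
    rw [← Subgroup.index_eq_card, (center_index hR hna).2]; norm_num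
  rw [← QuotientGroup.eq_one_iff, QuotientGroup.mk_mul, QuotientGroup.mk_mul, QuotientGroup.mk_mul,
    QuotientGroup.mk_inv, QuotientGroup.mk_inv,
    IsPGroup.commutative_of_card_eq_prime_sq hcard (a : R ⧸ Subgroup.center R) b]
  group

theorem closure_pair (hR : Nat.card R = 27) {a b : R} (hab : a * b ≠ b * a) :
    Subgroup.closure ({a, b} : Set R) = ⊤ := by
  haveI : Fact (Nat.Prime 3) := ⟨Nat.prime_three⟩
  apply Subgroup.eq_top_of_card_eq
  obtain ⟨j, hj, hji⟩ := (Nat.dvd_prime_pow Nat.prime_three).mp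
    (show Nat.card (Subgroup.closure ({a, b} : Set R)) ∣ 3 ^ 3 by
      rw [show (3 : ℕ) ^ 3 = Nat.card R by rw [hR]; norm_num]
      exact Subgroup.card_subgroup_dvd_card _)
  rw [hji, hR]
  have ha : a ∈ Subgroup.closure ({a, b} : Set R) := Subgroup.subset_closure (Set.mem_insert a _)
  have hb : b ∈ Subgroup.closure ({a, b} : Set R) :=
    Subgroup.subset_closure (Set.mem_insert_of_mem a rfl)
  interval_cases j
  · exfalso
    rw [pow_zero] at hji
    rw [Subgroup.card_eq_one.mp hji, Subgroup.mem_bot] at ha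
    exact hab (by rw [ha, one_mul, mul_one])
  · exfalso
    rw [pow_one] at hji
    haveI := isCyclic_of_prime_card (p := 3) hji
    exact hab (congrArg Subtype.val
      (IsCyclic.commGroup.mul_comm (⟨a, ha⟩ : Subgroup.closure ({a, b} : Set R)) ⟨b, hb⟩))
  · exfalso
    exact hab (congrArg Subtype.val
      (IsPGroup.commutative_of_card_eq_prime_sq hji (⟨a, ha⟩ : Subgroup.closure ({a, b} : Set R))
        ⟨b, hb⟩))
  · norm_num

theorem auto_trivial (hR : Nat.card R = 27) (hna : ¬ IsMulCommutative R) (φ : MulAut R) {r : ℕ}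
    [Fact r.Prime] (hr : 5 ≤ r) (hφ : φ ^ r = 1) : φ = 1 := by
  have hrp : r.Prime := Fact.out
  have hP : IsPGroup r (Subgroup.zpowers φ) := by
    intro z
    refine ⟨1, ?_⟩
    obtain ⟨i, hi⟩ := Subgroup.mem_zpowers_iff.mp z.2
    ext1
    rw [Subgroup.coe_pow, Subgroup.coe_one, ← hi, pow_one, ← zpow_natCast, ← _root_.zpow_mul, mul_comm,
      _root_.zpow_mul, zpow_natCast, hφ, _root_.one_zpow]
  let Fx : Subgroup R := MonoidHom.eqLocus φ.toMonoidHom (MonoidHom.id R)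
  have hmem : ∀ x, x ∈ Fx ↔ φ x = x := fun x => Iff.rfl
  have hfix : ∀ x : R, x ∈ MulAction.fixedPoints (Subgroup.zpowers φ) R ↔ x ∈ Fx := by
    intro x
    rw [MulAction.mem_fixedPoints, hmem]
    refine ⟨fun h => h ⟨φ, Subgroup.mem_zpowers φ⟩, fun h z => ?_⟩
    obtain ⟨i, hi⟩ := Subgroup.mem_zpowers_iff.mp z.2
    have h2 : φ ^ i ∈ MulAction.stabilizer (MulAut R) x :=
      Subgroup.zpow_mem _ (MulAction.mem_stabilizer_iff.mpr h) i
    show (z : MulAut R) • x = x
    rw [← hi]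
    exact MulAction.mem_stabilizer_iff.mp h2
  by_cases htop : Fx = ⊤
  · exact MulEquiv.ext fun x => (hmem x).mp (htop ▸ Subgroup.mem_top x)
  exfalso
  have hmod : Nat.card R ≡ Nat.card Fx [MOD r] := by
    refine (hP.card_modEq_card_fixedPoints R).trans ?_
    rw [Nat.card_congr (Equiv.subtypeEquivRight hfix)]
  rw [hR] at hmod
  obtain ⟨j, hj, hji⟩ := (Nat.dvd_prime_pow Nat.prime_three).mp
    (show Nat.card Fx ∣ 3 ^ 3 by
      rw [show (3 : ℕ) ^ 3 = Nat.card R by rw [hR]; norm_num]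
      exact Subgroup.card_subgroup_dvd_card _)
  rw [hji] at hmod
  have h13 : j = 0 ∧ r = 13 := by
    interval_cases j
    · refine ⟨rfl, ?_⟩
      have hd : r ∣ 2 * 13 := (Nat.modEq_iff_dvd' (by norm_num)).mp hmod.symm
      rcases hrp.dvd_mul.mp hd with h | h
      · have := Nat.le_of_dvd (by norm_num) h; omega
      · exact (Nat.prime_dvd_prime_iff_eq hrp (by norm_num)).mp h
    · exfalso
      have hd : r ∣ 2 ^ 3 * 3 := (Nat.modEq_iff_dvd' (by norm_num)).mp hmod.symm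
      rcases hrp.dvd_mul.mp hd with h | h
      · have := Nat.le_of_dvd (by norm_num) (hrp.dvd_of_dvd_pow h); omega
      · have := Nat.le_of_dvd (by norm_num) h; omega
    · exfalso
      have hd : r ∣ 3 ^ 2 * 2 := (Nat.modEq_iff_dvd' (by norm_num)).mp hmod.symm
      rcases hrp.dvd_mul.mp hd with h | h
      · have := Nat.le_of_dvd (by norm_num) (hrp.dvd_of_dvd_pow h); omega
      · have := Nat.le_of_dvd (by norm_num) h; omega
    · exact absurd (Subgroup.eq_top_of_card_eq Fx (by rw [hji, hR]; norm_num)) htop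
  obtain ⟨rfl, rfl⟩ := h13
  have hbot : Fx = ⊥ := Subgroup.card_eq_one.mp (by rw [hji, pow_zero])
  obtain ⟨hc1, hc9⟩ := center_index hR hna
  letI : MulAction (Subgroup.zpowers φ) (Subgroup.center R) :=
    { smul := fun g x => ⟨(g : MulAut R) x, Subgroup.mem_center_iff.mpr fun y => by
        have hx := congrArg (g : MulAut R)
          (Subgroup.mem_center_iff.mp x.2 ((g : MulAut R)⁻¹ y))
        simpa [map_mul] using hx⟩
      one_smul := fun x => Subtype.ext rfl
      mul_smul := fun g h x => Subtype.ext rfl }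
  have hmodZ := hP.card_modEq_card_fixedPoints (Subgroup.center R)
  have hone : MulAction.fixedPoints (Subgroup.zpowers φ) (Subgroup.center R) = {1} := by
    ext x
    simp only [MulAction.mem_fixedPoints, Set.mem_singleton_iff]
    constructor
    · intro h
      apply Subtype.ext
      have hx : (x : R) ∈ Fx := (hfix _).mp (MulAction.mem_fixedPoints.mpr fun z =>
        congrArg Subtype.val (h z))
      rwa [hbot, Subgroup.mem_bot] at hx
    · rintro rfl z
      exact Subtype.ext (map_one _)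
  have hmul := (Subgroup.center R).card_mul_index
  rw [hc9, hR] at hmul
  rw [hone, Nat.card_coe_set_eq, Set.ncard_singleton, show Nat.card (Subgroup.center R) = 3 by omega]
    at hmodZ
  exact absurd hmodZ (by decide)

end Group

variable {F : Type*} [Field F]

theorem exists_eigenvector {l : F} (hl : l * l + l + 1 = 0) (M : Matrix (Fin 3) (Fin 3) F)
    (hM : M * M * M = 1) {u : Fin 3 → F} (hu : u ≠ 0) (Q : Submodule F (Fin 3 → F)) (huQ : u ∈ Q)
    (hQ : ∀ x ∈ Q, M *ᵥ x ∈ Q) :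
    ∃ e : Fin 3, ∃ v ∈ Q, v ≠ 0 ∧ M *ᵥ v = l ^ (e : ℕ) • v := by
  have h2 : M *ᵥ u ∈ Q := hQ u huQ
  by_cases h : M *ᵥ u - u = 0
  · refine ⟨0, u, huQ, hu, ?_⟩
    rw [show ((0 : Fin 3) : ℕ) = 0 from rfl, pow_zero, one_smul]
    exact sub_eq_zero.mp h
  by_cases h' : M *ᵥ (M *ᵥ u - u) - l • (M *ᵥ u - u) = 0
  · refine ⟨1, _, Q.sub_mem h2 huQ, h, ?_⟩
    rw [show ((1 : Fin 3) : ℕ) = 1 from rfl, pow_one]
    exact sub_eq_zero.mp h'
  refine ⟨2, _, Q.sub_mem (hQ _ (Q.sub_mem h2 huQ)) (Q.smul_mem l (Q.sub_mem h2 huQ)), h', ?_⟩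
  have h3 : M *ᵥ (M *ᵥ (M *ᵥ u)) = u := by
    rw [Matrix.mulVec_mulVec, Matrix.mulVec_mulVec, hM, Matrix.one_mulVec]
  simp only [Matrix.mulVec_sub, Matrix.mulVec_smul, h3]
  funext i
  simp only [Pi.sub_apply, Pi.smul_apply, smul_eq_mul, show ((2 : Fin 3) : ℕ) = 2 from rfl]
  linear_combination
    (l * (M *ᵥ u) i - (M *ᵥ (M *ᵥ u)) i - (l ^ 2 - l) * u i * 0) * hl +
      (-u i * (l - 1)) * hl

/-- The diagonal model of the first generator. -/
def modA (l : F) : Matrix (Fin 3) (Fin 3) F := Matrix.diagonal fun i => l ^ (i : ℕ)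

/-- The shift model of the second generator. -/
def modS : Matrix (Fin 3) (Fin 3) F := !![0, 0, 1; 1, 0, 0; 0, 1, 0]

/-- The inverting involution. -/
def modT : Matrix (Fin 3) (Fin 3) F := !![-1, 0, 0; 0, 0, -1; 0, -1, 0]

/-- The element multiplying the shift by the diagonal generator. -/
def modD (l : F) : Matrix (Fin 3) (Fin 3) F := Matrix.diagonal ![1, 1, l]

variable {R : Subgroup (GL (Fin 3) F)}

theorem val_pow_three (hRe : Monoid.exponent R = 3) {a : GL (Fin 3) F} (ha : a ∈ R) :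
    (a : Matrix (Fin 3) (Fin 3) F) * a * a = 1 := by
  have h := Monoid.pow_exponent_eq_one (⟨a, ha⟩ : R)
  rw [hRe] at h
  have h1 : a ^ 3 = 1 := by simpa using congrArg Subtype.val h
  have h2 := congrArg (fun g : GL (Fin 3) F => (g : Matrix (Fin 3) (Fin 3) F)) h1
  simpa [pow_succ] using h2

/-- A frame in which the group consists of monomial matrices. -/
theorem exists_frame {w : F} (hw : w * w + w + 1 = 0) (h3 : (3 : F) ≠ 0) (hR : Nat.card R = 27)
    (hRe : Monoid.exponent R = 3) (hna : ¬ IsMulCommutative R) :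
    ∃ (l : F) (a b G : GL (Fin 3) F), l * l + l + 1 = 0 ∧ a ∈ R ∧ b ∈ R ∧
      Subgroup.closure ({a, b} : Set (GL (Fin 3) F)) = R ∧
      (a : Matrix (Fin 3) (Fin 3) F) * (G : Matrix (Fin 3) (Fin 3) F) = (G : Matrix (Fin 3) (Fin 3) F) * modA l ∧
      (b : Matrix (Fin 3) (Fin 3) F) * (G : Matrix (Fin 3) (Fin 3) F) = (G : Matrix (Fin 3) (Fin 3) F) * modS ∧
      ∀ i, (G : Matrix (Fin 3) (Fin 3) F).col i =
        ((b : Matrix (Fin 3) (Fin 3) F) ^ (i : ℕ)) *ᵥ (G : Matrix (Fin 3) (Fin 3) F).col 0 := by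
  classical
  haveI : Finite R := Nat.finite_of_card_ne_zero (by rw [hR]; norm_num)
  obtain ⟨a, b, hab⟩ : ∃ a b : R, a * b ≠ b * a := by
    by_contra hcon
    push Not at hcon
    exact hna ⟨⟨hcon⟩⟩
  obtain ⟨c, hc⟩ : ∃ c, c = a * b * a⁻¹ * b⁻¹ := ⟨_, rfl⟩
  have hcZ : c ∈ Subgroup.center R := hc ▸ commutator_mem_center hR hna a b
  obtain ⟨A, hA⟩ : ∃ A, A = ((a : GL (Fin 3) F) : Matrix (Fin 3) (Fin 3) F) := ⟨_, rfl⟩
  obtain ⟨B, hB⟩ : ∃ B, B = ((b : GL (Fin 3) F) : Matrix (Fin 3) (Fin 3) F) := ⟨_, rfl⟩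
  obtain ⟨C, hC⟩ : ∃ C, C = ((c : GL (Fin 3) F) : Matrix (Fin 3) (Fin 3) F) := ⟨_, rfl⟩
  have hA3 : A * A * A = 1 := hA ▸ val_pow_three hRe a.2
  have hB3 : B * B * B = 1 := hB ▸ val_pow_three hRe b.2
  have hC3 : C * C * C = 1 := hC ▸ val_pow_three hRe c.2
  have hcomm : ∀ g : R, ((g : GL (Fin 3) F) : Matrix (Fin 3) (Fin 3) F) * C =
      C * ((g : GL (Fin 3) F) : Matrix (Fin 3) (Fin 3) F) := fun g => by
    rw [hC]
    exact congrArg (fun x : R => ((x : GL (Fin 3) F) : Matrix (Fin 3) (Fin 3) F))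
      (Subgroup.mem_center_iff.mp hcZ g)
  have hCA : A * C = C * A := hA ▸ hcomm a
  have hCB : B * C = C * B := hB ▸ hcomm b
  have hAB : A * B = C * B * A := by
    rw [hA, hB, hC]
    exact congrArg (fun x : R => ((x : GL (Fin 3) F) : Matrix (Fin 3) (Fin 3) F))
      (show a * b = c * b * a by rw [hc]; group)
  have hC1 : C ≠ 1 := fun h => hab (by
    have : c = 1 := Subtype.ext (Units.ext (by rw [← hC, h]; rfl))
    rw [hc] at this
    calc a * b = (a * b * a⁻¹ * b⁻¹) * (b * a) := by group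
      _ = b * a := by rw [this, one_mul])
  -- a non-trivial eigenvalue of the commutator
  obtain ⟨w0, hw0⟩ : ∃ x, C *ᵥ x - x ≠ 0 := by
    by_contra hcon
    push Not at hcon
    exact hC1 (Matrix.ext_iff_mulVec.mpr fun x => by
      rw [Matrix.one_mulVec]; exact sub_eq_zero.mp (hcon x))
  let Q0 : Submodule F (Fin 3 → F) :=
    { carrier := {x | x + C *ᵥ x + C *ᵥ (C *ᵥ x) = 0}
      zero_mem' := by simp
      add_mem' := fun {x y} hx hy => by
        show (x + y) + C *ᵥ (x + y) + C *ᵥ (C *ᵥ (x + y)) = 0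
        rw [Matrix.mulVec_add, Matrix.mulVec_add, ← add_zero (0 : Fin 3 → F)]
        nth_rewrite 1 [← hx]
        rw [← hy]
        abel
      smul_mem' := fun t x hx => by
        show t • x + C *ᵥ (t • x) + C *ᵥ (C *ᵥ (t • x)) = 0
        rw [Matrix.mulVec_smul, Matrix.mulVec_smul, ← smul_add, ← smul_add, hx, smul_zero] }
  have hC3v : ∀ x, C *ᵥ (C *ᵥ (C *ᵥ x)) = x := fun x => by
    rw [Matrix.mulVec_mulVec, Matrix.mulVec_mulVec, hC3, Matrix.one_mulVec]
  obtain ⟨e, u, huQ, hu, huC⟩ := exists_eigenvector hw C hC3 hw0 Q0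
    (by
      show (C *ᵥ w0 - w0) + C *ᵥ (C *ᵥ w0 - w0) + C *ᵥ (C *ᵥ (C *ᵥ w0 - w0)) = 0
      simp only [Matrix.mulVec_sub, hC3v]
      abel)
    (fun x hx => by
      show C *ᵥ x + C *ᵥ (C *ᵥ x) + C *ᵥ (C *ᵥ (C *ᵥ x)) = 0
      rw [← Matrix.mulVec_add, ← Matrix.mulVec_add]
      rw [show x + C *ᵥ x + C *ᵥ (C *ᵥ x) = 0 from hx, Matrix.mulVec_zero])
  obtain ⟨l, hl⟩ : ∃ l, l = w ^ (e : ℕ) := ⟨_, rfl⟩
  rw [← hl] at huC
  have hll : l * l + l + 1 = 0 := by
    have h0 : u + C *ᵥ u + C *ᵥ (C *ᵥ u) = 0 := huQ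
    rw [huC, Matrix.mulVec_smul, huC, smul_smul] at h0
    obtain ⟨i, hi⟩ := Function.ne_iff.mp hu
    have h1 := congrFun h0 i
    simp only [Pi.add_apply, Pi.smul_apply, smul_eq_mul, Pi.zero_apply] at h1
    refine (mul_eq_zero.mp ?_).resolve_right hi
    linear_combination h1
  have hl1 : l ≠ 1 := by
    intro h
    rw [h] at hll
    exact h3 (by linear_combination hll)
  have hl3 : l * l * l = 1 := by linear_combination (l - 1) * hll
  -- an eigenvector of the first generator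
  let Q1 : Submodule F (Fin 3 → F) :=
    { carrier := {x | C *ᵥ x = l • x}
      zero_mem' := by simp
      add_mem' := fun {x y} hx hy => by
        show C *ᵥ (x + y) = l • (x + y)
        rw [Matrix.mulVec_add, hx, hy, smul_add]
      smul_mem' := fun t x hx => by
        show C *ᵥ (t • x) = l • (t • x)
        rw [Matrix.mulVec_smul, hx, smul_comm] }
  have hQ1 : ∀ (M : Matrix (Fin 3) (Fin 3) F), M * C = C * M → ∀ x ∈ Q1, M *ᵥ x ∈ Q1 := by
    intro M hM x hx
    show C *ᵥ (M *ᵥ x) = l • (M *ᵥ x)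
    rw [Matrix.mulVec_mulVec, ← hM, ← Matrix.mulVec_mulVec, hx, Matrix.mulVec_smul]
  obtain ⟨e', v', hv'Q, hv', hv'A⟩ :=
    exists_eigenvector hll A hA3 hu Q1 huC (hQ1 A hCA)
  have hAB' : ∀ x ∈ Q1, A *ᵥ (B *ᵥ x) = l • (B *ᵥ (A *ᵥ x)) := by
    intro x hx
    rw [Matrix.mulVec_mulVec, hAB, ← Matrix.mulVec_mulVec, ← Matrix.mulVec_mulVec]
    exact hQ1 B hCB _ (hQ1 A hCA x hx)
  obtain ⟨v, hvQ, hv, hvA⟩ : ∃ v, v ∈ Q1 ∧ v ≠ 0 ∧ A *ᵥ v = v := by
    have hBinj : ∀ x, B *ᵥ x = 0 → x = 0 := by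
      intro x hx
      have h0 : (B * B * B) *ᵥ x = 0 := by
        rw [← Matrix.mulVec_mulVec, hx, Matrix.mulVec_zero]
      rwa [hB3, Matrix.one_mulVec] at h0
    have hBA : A *ᵥ (B *ᵥ v') = (l * l ^ (e' : ℕ)) • (B *ᵥ v') := by
      rw [hAB' v' hv'Q, hv'A, Matrix.mulVec_smul, smul_smul]
    fin_cases e'
    · exact ⟨v', hv'Q, hv', by simpa using hv'A⟩
    · refine ⟨B *ᵥ (B *ᵥ v'), hQ1 B hCB _ (hQ1 B hCB _ hv'Q), fun h => hv' (hBinj _ (hBinj _ h)), ?_⟩
      rw [hAB' _ (hQ1 B hCB _ hv'Q), hBA, Matrix.mulVec_smul, smul_smul]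
      simp only [pow_one]
      rw [← mul_assoc, hl3, one_smul]
    · refine ⟨B *ᵥ v', hQ1 B hCB _ hv'Q, fun h => hv' (hBinj _ h), ?_⟩
      rw [hBA]
      simp only [pow_two]
      rw [← mul_assoc, hl3, one_smul]
  obtain ⟨g, hg⟩ : ∃ g : Fin 3 → (Fin 3 → F), g = fun i : Fin 3 => (B ^ (i : ℕ)) *ᵥ v := ⟨_, rfl⟩
  have hg1 : B *ᵥ v ∈ Q1 := hQ1 B hCB v hvQ
  have hgA : ∀ i : Fin 3, A *ᵥ g i = l ^ (i : ℕ) • g i := by
    intro i
    rw [hg]
    fin_cases i
    · simpa using hvA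
    · simp only [pow_one]
      rw [hAB' v hvQ, hvA]
    · simp only [pow_two, ← Matrix.mulVec_mulVec]
      rw [hAB' _ hg1, hAB' v hvQ, hvA, Matrix.mulVec_smul, smul_smul]
  have hg0 : ∀ i, g i ≠ 0 := by
    intro i h
    apply hv
    rw [hg] at h
    have h0 : (B ^ (3 - (i : ℕ))) *ᵥ ((B ^ (i : ℕ)) *ᵥ v) = 0 := by
      rw [show (B ^ (i : ℕ)) *ᵥ v = 0 from h, Matrix.mulVec_zero]
    rw [Matrix.mulVec_mulVec, ← pow_add, Nat.sub_add_cancel (by omega), pow_succ, pow_two, hB3,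
      Matrix.one_mulVec] at h0
    exact h0
  have hli : LinearIndependent F g := by
    refine Module.End.eigenvectors_linearIndependent' (Matrix.toLin' A)
      (fun i : Fin 3 => l ^ (i : ℕ)) ?_ g
      (fun i => ⟨Module.End.mem_eigenspace_iff.mpr (by rw [Matrix.toLin'_apply]; exact hgA i), hg0 i⟩)
    have hl2 : l * l ≠ 1 := fun h => hl1 (by linear_combination hl3 - l * h)
    have hl0 : l ≠ 0 := fun h => by rw [h, zero_mul, zero_mul] at hl3; exact zero_ne_one hl3
    intro i j hij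
    simp only at hij
    fin_cases i <;> fin_cases j <;> simp [pow_two] at hij ⊢
    · exact hl1 hij.symm
    · exact hl2 hij.symm
    · exact hl1 hij
    · exact hl1 (mul_left_cancel₀ hl0 (hij.symm.trans (mul_one l).symm))
    · exact hl2 hij
    · exact hl1 (mul_left_cancel₀ hl0 (hij.trans (mul_one l).symm))
  obtain ⟨G, hG⟩ : ∃ G : GL (Fin 3) F,
      (G : Matrix (Fin 3) (Fin 3) F) = (Matrix.of g)ᵀ := by
    have : IsUnit ((Matrix.of g)ᵀ) := by
      rw [← Matrix.linearIndependent_cols_iff_isUnit]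
      exact hli
    exact ⟨this.unit, this.unit_spec⟩
  have hcol : ∀ i, (G : Matrix (Fin 3) (Fin 3) F).col i = g i := fun i => by rw [hG]; rfl
  have hmulcol : ∀ (M : Matrix (Fin 3) (Fin 3) F) (i j : Fin 3),
      (M * (G : Matrix (Fin 3) (Fin 3) F)) i j = (M *ᵥ g j) i := by
    intro M i j
    rw [hG]; rfl
  refine ⟨l, a, b, G, hll, a.2, b.2, ?_, ?_, ?_, ?_⟩
  · have h := congrArg (Subgroup.map R.subtype) (closure_pair hR hab)
    rw [MonoidHom.map_closure, ← MonoidHom.range_eq_map, Subgroup.range_subtype, Set.image_insert_eq,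
      Set.image_singleton] at h
    exact h
  · ext i j
    rw [← hA, hmulcol, hgA, modA, Matrix.mul_diagonal, hG]
    show l ^ (j : ℕ) * g j i = g j i * l ^ (j : ℕ)
    ring
  · ext i j
    rw [← hB, hmulcol, hG, hg]
    fin_cases j <;>
      simp [modS, Matrix.mul_apply, Fin.sum_univ_three, Matrix.mulVec_mulVec, pow_succ, ← mul_assoc,
        hB3]
  · intro i
    rw [hcol, hcol, ← hB, hg]
    simp

theorem mem_normalizer_of_conj (hR : Finite R) {a b : GL (Fin 3) F}
    (hcl : Subgroup.closure ({a, b} : Set (GL (Fin 3) F)) = R) (n : GL (Fin 3) F)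
    (hna : n * a * n⁻¹ ∈ R) (hnb : n * b * n⁻¹ ∈ R) : n ∈ Cfsg.Geo.subgroupNormalizer R := by
  have key : ∀ z ∈ R, n * z * n⁻¹ ∈ R := by
    intro z hz
    have : R ≤ R.comap (MulAut.conj n).toMonoidHom := by
      conv_lhs => rw [← hcl]
      rw [Subgroup.closure_le]
      rintro x (rfl | rfl)
      · exact hna
      · exact hnb
    exact this hz
  show n ∈ Subgroup.normalizer (R : Set (GL (Fin 3) F))
  rw [Subgroup.mem_normalizer_iff]
  refine fun z => ⟨key z, fun hz => ?_⟩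
  have hinj : Function.Injective (fun x : R => (⟨n * x * n⁻¹, key x x.2⟩ : R)) := fun x y h =>
    Subtype.ext (by simpa using congrArg Subtype.val h)
  obtain ⟨⟨x, hx⟩, hxe⟩ := (Finite.injective_iff_surjective.mp hinj) ⟨_, hz⟩
  have : x = z := by simpa using congrArg Subtype.val hxe
  exact this ▸ hx

/-- The standard elements of the normaliser. -/
theorem exists_norm_elements {l : F} (hl : l * l + l + 1 = 0) {a b G : GL (Fin 3) F}
    (hR : Finite R) (ha : a ∈ R) (hb : b ∈ R)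
    (hcl : Subgroup.closure ({a, b} : Set (GL (Fin 3) F)) = R)
    (hA : (a : Matrix (Fin 3) (Fin 3) F) * (G : Matrix (Fin 3) (Fin 3) F) = (G : Matrix (Fin 3) (Fin 3) F) * modA l)
    (hB : (b : Matrix (Fin 3) (Fin 3) F) * (G : Matrix (Fin 3) (Fin 3) F) = (G : Matrix (Fin 3) (Fin 3) F) * modS) :
    (∀ T : GL (Fin 3) F, (T : Matrix (Fin 3) (Fin 3) F) = modT →
        G * T * G⁻¹ ∈ Cfsg.Geo.subgroupNormalizer R) ∧
      (∀ D : GL (Fin 3) F, (D : Matrix (Fin 3) (Fin 3) F) = modD l →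
        G * D * G⁻¹ ∈ Cfsg.Geo.subgroupNormalizer R) ∧
      (∀ D : GL (Fin 3) F, (D : Matrix (Fin 3) (Fin 3) F) = modA l →
        G * D * G⁻¹ ∈ Cfsg.Geo.subgroupNormalizer R) := by
  have hl3 : l * l * l = 1 := by linear_combination (l - 1) * hl
  obtain ⟨A, hAdef⟩ : ∃ A, A = G⁻¹ * a * G := ⟨_, rfl⟩
  obtain ⟨S, hSdef⟩ : ∃ S, S = G⁻¹ * b * G := ⟨_, rfl⟩
  have hAm : (A : Matrix (Fin 3) (Fin 3) F) = modA l := by
    rw [hAdef, Units.val_mul, Units.val_mul, Matrix.mul_assoc, hA, ← Matrix.mul_assoc,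
      ← Units.val_mul, inv_mul_cancel, Units.val_one, Matrix.one_mul]
  have hSm : (S : Matrix (Fin 3) (Fin 3) F) = modS := by
    rw [hSdef, Units.val_mul, Units.val_mul, Matrix.mul_assoc, hB, ← Matrix.mul_assoc,
      ← Units.val_mul, inv_mul_cancel, Units.val_one, Matrix.one_mul]
  have hin : ∀ N : GL (Fin 3) F, (∃ X : GL (Fin 3) F, G * X * G⁻¹ ∈ R ∧ N * A = X * N) →
      (∃ X : GL (Fin 3) F, G * X * G⁻¹ ∈ R ∧ N * S = X * N) →
      G * N * G⁻¹ ∈ Cfsg.Geo.subgroupNormalizer R := by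
    rintro N ⟨X, hX, hNX⟩ ⟨Y, hY, hNY⟩
    refine mem_normalizer_of_conj hR hcl _ ?_ ?_
    · have : G * N * G⁻¹ * a * (G * N * G⁻¹)⁻¹ = G * (N * A * N⁻¹) * G⁻¹ := by rw [hAdef]; group
      rw [this, hNX, mul_inv_cancel_right]
      exact hX
    · have : G * N * G⁻¹ * b * (G * N * G⁻¹)⁻¹ = G * (N * S * N⁻¹) * G⁻¹ := by rw [hSdef]; group
      rw [this, hNY, mul_inv_cancel_right]
      exact hY
  have eA : G * A * G⁻¹ = a := by rw [hAdef]; group
  have eS : G * S * G⁻¹ = b := by rw [hSdef]; group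
  refine ⟨fun T hT => hin T ⟨A * A, ?_, ?_⟩ ⟨S * S, ?_, ?_⟩,
    fun D hD => hin D ⟨A, by rw [eA]; exact ha, ?_⟩ ⟨S * A, ?_, ?_⟩,
    fun D hD => hin D ⟨A, by rw [eA]; exact ha, ?_⟩ ⟨A * S * A⁻¹, ?_, ?_⟩⟩
  · rw [show G * (A * A) * G⁻¹ = (G * A * G⁻¹) * (G * A * G⁻¹) by group, eA]
    exact mul_mem ha ha
  · apply Units.ext
    simp only [Units.val_mul, hT, hAm]
    ext i j
    fin_cases i <;> fin_cases j <;>
      simp [modA, modT, Matrix.mul_apply, Fin.sum_univ_three, Matrix.diagonal, pow_two] <;>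
      first
        | ring1
        | linear_combination -l * hl3
  · rw [show G * (S * S) * G⁻¹ = (G * S * G⁻¹) * (G * S * G⁻¹) by group, eS]
    exact mul_mem hb hb
  · apply Units.ext
    simp only [Units.val_mul, hT, hSm]
    ext i j
    fin_cases i <;> fin_cases j <;> simp [modS, modT, Matrix.mul_apply, Fin.sum_univ_three]
  · apply Units.ext
    simp only [Units.val_mul, hD, hAm, modA, modD, Matrix.diagonal_mul_diagonal]
    congr 1
    funext i
    ring
  · rw [show G * (S * A) * G⁻¹ = (G * S * G⁻¹) * (G * A * G⁻¹) by group, eS, eA]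
    exact mul_mem hb ha
  · apply Units.ext
    simp only [Units.val_mul, hD, hSm, hAm]
    ext i j
    simp only [modA, modD, Matrix.diagonal_mul, Matrix.mul_diagonal]
    fin_cases i <;> fin_cases j <;> simp [modS, pow_two] <;>
      first
        | ring1
        | linear_combination -hl3
  · apply Units.ext
    simp only [Units.val_mul, hD, hAm]
  · rw [show G * (A * S * A⁻¹) * G⁻¹ = (G * A * G⁻¹) * (G * S * G⁻¹) * (G * A * G⁻¹)⁻¹ by group,
      eS, eA]
    exact mul_mem (mul_mem ha hb) (inv_mem ha)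
  · have hDA : D = A := Units.ext (hD.trans hAm.symm)
    rw [hDA, inv_mul_cancel_right]

theorem eq_scalar_of_commute {l : F} (hl : l * l + l + 1 = 0) (h3 : (3 : F) ≠ 0)
    (M : Matrix (Fin 3) (Fin 3) F) (hA : M * modA l = modA l * M) (hS : M * modS = modS * M) :
    M = M 0 0 • (1 : Matrix (Fin 3) (Fin 3) F) := by
  have hl1 : l ≠ 1 := by
    intro h
    rw [h] at hl
    exact h3 (by linear_combination hl)
  have hl2 : l * l ≠ 1 := fun h => hl1 (by linear_combination (l - 1) * hl - l * h)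
  have e : ∀ i j : Fin 3, M i j * l ^ (j : ℕ) = l ^ (i : ℕ) * M i j := by
    intro i j
    have := congrFun (congrFun hA i) j
    rwa [modA, Matrix.mul_diagonal, Matrix.diagonal_mul] at this
  have n1 : l - 1 ≠ 0 := sub_ne_zero.mpr hl1
  have n2 : l * l - 1 ≠ 0 := sub_ne_zero.mpr hl2
  have n3 : l ≠ 0 := by
    intro h
    rw [h] at hl
    simp at hl
  have z01 : M 0 1 = 0 := (mul_eq_zero.mp (show M 0 1 * (l - 1) = 0 by
    have := e 0 1; simp at this; linear_combination this)).resolve_right n1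
  have z02 : M 0 2 = 0 := (mul_eq_zero.mp (show M 0 2 * (l * l - 1) = 0 by
    have := e 0 2; simp at this; linear_combination this)).resolve_right n2
  have z10 : M 1 0 = 0 := (mul_eq_zero.mp (show M 1 0 * (l - 1) = 0 by
    have := e 1 0; simp at this; linear_combination -this)).resolve_right n1
  have z20 : M 2 0 = 0 := (mul_eq_zero.mp (show M 2 0 * (l * l - 1) = 0 by
    have := e 2 0; simp at this; linear_combination -this)).resolve_right n2
  have z12 : M 1 2 = 0 := (mul_eq_zero.mp (show M 1 2 * (l * (l - 1)) = 0 by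
    have := e 1 2; simp at this; linear_combination this)).resolve_right (mul_ne_zero n3 n1)
  have z21 : M 2 1 = 0 := (mul_eq_zero.mp (show M 2 1 * (l * (l - 1)) = 0 by
    have := e 2 1; simp at this; linear_combination -this)).resolve_right (mul_ne_zero n3 n1)
  have d1 : M 1 1 = M 0 0 := by
    have := congrFun (congrFun hS 1) 0
    simpa [modS, Matrix.mul_apply, Fin.sum_univ_three] using this
  have d2 : M 2 2 = M 1 1 := by
    have := congrFun (congrFun hS 2) 1
    simpa [modS, Matrix.mul_apply, Fin.sum_univ_three] using this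
  ext i j
  fin_cases i <;> fin_cases j <;> simp [z01, z02, z10, z20, z12, z21, d1, d2]

/-- An element of prime order at least five normalising the group is scalar. -/
theorem normalizer_scalar {l : F} (hl : l * l + l + 1 = 0) (h3 : (3 : F) ≠ 0)
    {a b G : GL (Fin 3) F} (hR : Nat.card R = 27) (hna : ¬ IsMulCommutative R) (ha : a ∈ R)
    (hb : b ∈ R) (hA : (a : Matrix (Fin 3) (Fin 3) F) * (G : Matrix (Fin 3) (Fin 3) F) = (G : Matrix (Fin 3) (Fin 3) F) * modA l)
    (hB : (b : Matrix (Fin 3) (Fin 3) F) * (G : Matrix (Fin 3) (Fin 3) F) = (G : Matrix (Fin 3) (Fin 3) F) * modS) {y : GL (Fin 3) F}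
    (hy : y ∈ Cfsg.Geo.subgroupNormalizer R) {r : ℕ} [Fact r.Prime] (hr : 5 ≤ r) (hyr : y ^ r = 1) :
    ∃ t : F, (y : Matrix (Fin 3) (Fin 3) F) = t • (1 : Matrix (Fin 3) (Fin 3) F) := by
  haveI : Finite R := Nat.finite_of_card_ne_zero (by rw [hR]; norm_num)
  let φ : MulAut R := Subgroup.normalizerMonoidHom R ⟨y, hy⟩
  have hφ : φ = 1 := auto_trivial hR hna φ hr (by
    rw [← map_pow, show (⟨y, hy⟩ : Subgroup.normalizer (R : Set (GL (Fin 3) F))) ^ r = 1 from
      Subtype.ext (by simpa using hyr), map_one])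
  have hc : ∀ x ∈ R, y * x = x * y := by
    intro x hx
    have h := congrArg (fun f : MulAut R => ((f ⟨x, hx⟩ : R) : GL (Fin 3) F)) hφ
    exact mul_inv_eq_iff_eq_mul.mp (h : y * x * y⁻¹ = x)
  obtain ⟨Y, hY⟩ : ∃ Y, Y = G⁻¹ * y * G := ⟨_, rfl⟩
  have hconj : ∀ (x : GL (Fin 3) F) (X : Matrix (Fin 3) (Fin 3) F), x ∈ R →
      (x : Matrix (Fin 3) (Fin 3) F) * (G : Matrix (Fin 3) (Fin 3) F) = (G : Matrix (Fin 3) (Fin 3) F) * X →
      (Y : Matrix (Fin 3) (Fin 3) F) * X = X * Y := by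
    intro x X hx hX
    have h1 : X = ((G⁻¹ * x * G : GL (Fin 3) F) : Matrix (Fin 3) (Fin 3) F) := by
      rw [Units.val_mul, Units.val_mul, Matrix.mul_assoc, hX, ← Matrix.mul_assoc, ← Units.val_mul,
        inv_mul_cancel, Units.val_one, Matrix.one_mul]
    rw [h1, ← Units.val_mul, ← Units.val_mul, hY]
    congr 1
    calc G⁻¹ * y * G * (G⁻¹ * x * G) = G⁻¹ * (y * x) * G := by group
      _ = G⁻¹ * (x * y) * G := by rw [hc x hx]
      _ = G⁻¹ * x * G * (G⁻¹ * y * G) := by group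
  refine ⟨(Y : Matrix (Fin 3) (Fin 3) F) 0 0, ?_⟩
  have h := eq_scalar_of_commute hl h3 _ (hconj a _ ha hA) (hconj b _ hb hB)
  have hyY : y = G * Y * G⁻¹ := by rw [hY]; group
  rw [hyY, Units.val_mul, Units.val_mul]
  nth_rewrite 1 [h]
  rw [Matrix.mul_smul, Matrix.mul_one, Matrix.smul_mul, ← Units.val_mul, mul_inv_cancel,
    Units.val_one]

end Cfsg.Agent.Extra27
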