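import Mathlib
import Cfsg.Prelude.Def_GeometricClasses
import Cfsg.Agent.Extra27.Basic
import Cfsg.Agent.Classical.LinearBasic

/-! Elements of prime order of a linear or unitary group of dimension three and the normaliser of
a subgroup of order 27 and exponent 3. -/

set_option autoImplicit false
set_option linter.style.haveILetI false

namespace Cfsg.Agent.Extra27

open Matrix Cfsg.Agent.Classical

variable {F : Type*} [Field F]

/-- Every invariant subspace is spanned by its eigenvectors with eigenvalues among the values of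
`f`. -/
def Decomp {ι : Type} (M : Matrix (Fin 3) (Fin 3) F) (f : ι → Fˣ) : Prop :=
  ∀ Q : Submodule F (Fin 3 → F), (∀ x ∈ Q, M *ᵥ x ∈ Q) → ∀ u ∈ Q,
    u ∈ Submodule.span F {v | v ∈ Q ∧ ∃ k, M *ᵥ v = (f k : F) • v}

/-- The two signs. -/
def sgn (F : Type*) [Field F] : Bool → Fˣ := fun b => if b then -1 else 1

theorem dec_two (h2 : (2 : F) ≠ 0) (M : Matrix (Fin 3) (Fin 3) F) (hM : M * M = 1) :
    Decomp M (sgn F) := by
  intro Q hQ u hu
  have h2u : M *ᵥ (M *ᵥ u) = u := by rw [Matrix.mulVec_mulVec, hM, Matrix.one_mulVec]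
  have hp : u + M *ᵥ u ∈ Submodule.span F {v | v ∈ Q ∧ ∃ k, M *ᵥ v = (sgn F k : F) • v} :=
    Submodule.subset_span ⟨Q.add_mem hu (hQ u hu), false, by
      simp [sgn, Matrix.mulVec_add, h2u, add_comm]⟩
  have hm : u - M *ᵥ u ∈ Submodule.span F {v | v ∈ Q ∧ ∃ k, M *ᵥ v = (sgn F k : F) • v} :=
    Submodule.subset_span ⟨Q.sub_mem hu (hQ u hu), true, by
      simp [sgn, Matrix.mulVec_sub, h2u]⟩
  have he : u = (2 : F)⁻¹ • ((u + M *ᵥ u) + (u - M *ᵥ u)) := by
    funext i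
    simp only [Pi.smul_apply, Pi.add_apply, Pi.sub_apply, smul_eq_mul]
    field_simp
    ring
  rw [he]
  exact Submodule.smul_mem _ _ (add_mem hp hm)

/-- The three powers of a cube root of unity. -/
def pw (l : Fˣ) : Fin 3 → Fˣ := fun k => l ^ (k : ℕ)

theorem dec_three {l : Fˣ} (hl : (l : F) * l + l + 1 = 0) (h3 : (3 : F) ≠ 0)
    (M : Matrix (Fin 3) (Fin 3) F) (hM : M * M * M = 1) : Decomp M (pw l) := by
  intro Q hQ u hu
  have h3u : M *ᵥ (M *ᵥ (M *ᵥ u)) = u := by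
    rw [Matrix.mulVec_mulVec, Matrix.mulVec_mulVec, hM, Matrix.one_mulVec]
  let c : F → (Fin 3 → F) := fun m => u + (m * m) • (M *ᵥ u) + m • (M *ᵥ (M *ᵥ u))
  have hcQ : ∀ m : F, c m ∈ Q := fun m =>
    Q.add_mem (Q.add_mem hu (Q.smul_mem _ (hQ u hu))) (Q.smul_mem _ (hQ _ (hQ u hu)))
  have hc : ∀ m : F, m * m * m = 1 → M *ᵥ c m = m • c m := by
    intro m hm
    simp only [c, Matrix.mulVec_add, Matrix.mulVec_smul, h3u, smul_add, smul_smul]
    rw [show m * (m * m) = 1 by rw [← mul_assoc]; exact hm, one_smul]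
    abel
  have hl3 : (l : F) * l * l = 1 := by linear_combination ((l : F) - 1) * hl
  let T : Set (Fin 3 → F) := {v | v ∈ Q ∧ ∃ k, M *ᵥ v = (pw l k : F) • v}
  have m0 : c 1 ∈ Submodule.span F T :=
    Submodule.subset_span ⟨hcQ _, 0, by simpa [pw] using hc 1 (by ring)⟩
  have m1 : c l ∈ Submodule.span F T :=
    Submodule.subset_span ⟨hcQ _, 1, by simpa [pw] using hc l hl3⟩
  have m2 : c (l * l) ∈ Submodule.span F T :=
    Submodule.subset_span ⟨hcQ _, 2, by simpa [pw, pow_two] using hc (l * l) (by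
      linear_combination ((l : F) * l * l + 1) * hl3)⟩
  have : u = (3 : F)⁻¹ • (c 1 + c l + c (l * l)) := by
    funext i
    simp only [c, Pi.add_apply, Pi.smul_apply, smul_eq_mul]
    field_simp
    linear_combination (-(M *ᵥ u) i - (M *ᵥ (M *ᵥ u)) i) * hl - (M *ᵥ u) i * (l : F) * hl3
  rw [this]
  exact Submodule.smul_mem _ _ (add_mem (add_mem m0 m1) m2)

theorem exists_diag_of_dec {ι : Type} (f : ι → Fˣ) (x : GL (Fin 3) F)
    (hx : Decomp (x : Matrix (Fin 3) (Fin 3) F) f) :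
    ∃ (G : GL (Fin 3) F) (e : Fin 3 → ι), x * G = G * diagGL (fun i => f (e i)) := by
  classical
  let S : Set (Fin 3 → F) :=
    {v | v ∈ (⊤ : Submodule F (Fin 3 → F)) ∧ ∃ k, (x : Matrix (Fin 3) (Fin 3) F) *ᵥ v = (f k : F) • v}
  have hS : ⊤ ≤ Submodule.span F S := fun u _ =>
    hx ⊤ (fun _ _ => Submodule.mem_top) u Submodule.mem_top
  obtain ⟨T, hTS, hTspan, hTli⟩ := exists_linearIndependent F S
  let bas := Module.Basis.mk hTli (by rw [Subtype.range_coe, hTspan]; exact hS)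
  haveI : Fintype T := hTli.setFinite.fintype
  have hcard : Fintype.card T = 3 := by
    rw [← Module.finrank_eq_card_basis bas, Module.finrank_fintype_fun_eq_card, Fintype.card_fin]
  let ε : Fin 3 ≃ T := (Fintype.equivFinOfCardEq hcard).symm
  let g : Fin 3 → (Fin 3 → F) := fun i => (ε i : Fin 3 → F)
  choose e he using fun i => (hTS (ε i).2).2
  have hu : IsUnit ((Matrix.of g)ᵀ) := by
    rw [← Matrix.linearIndependent_cols_iff_isUnit]
    exact hTli.comp ε ε.injective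
  refine ⟨hu.unit, e, Units.ext ?_⟩
  rw [Units.val_mul, Units.val_mul, diagGL_coe]
  ext i j
  rw [Matrix.mul_diagonal, hu.unit_spec]
  show ((x : Matrix (Fin 3) (Fin 3) F) *ᵥ g j) i = g j i * (f (e j) : F)
  rw [he j, Pi.smul_apply, smul_eq_mul, mul_comm]

/-- Scalar matrices. -/
def scal : Fˣ →* GL (Fin 3) F where
  toFun t := diagGL fun _ => t
  map_one' := map_one diagGL
  map_mul' _ _ := map_mul diagGL _ _

theorem scal_coe (t : Fˣ) :
    (scal t : Matrix (Fin 3) (Fin 3) F) = (t : F) • (1 : Matrix (Fin 3) (Fin 3) F) := by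
  rw [Matrix.smul_one_eq_diagonal]
  rfl

theorem scal_comm (t : Fˣ) (g : GL (Fin 3) F) : scal t * g = g * scal t := by
  apply Units.ext
  rw [Units.val_mul, Units.val_mul, scal_coe, Matrix.smul_mul, Matrix.one_mul, Matrix.mul_smul,
    Matrix.mul_one]

theorem scal_mem_normalizer (R : Subgroup (GL (Fin 3) F)) (t : Fˣ) :
    scal t ∈ Cfsg.Geo.subgroupNormalizer R := by
  show scal t ∈ Subgroup.normalizer (R : Set (GL (Fin 3) F))
  rw [Subgroup.mem_normalizer_iff]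
  intro z
  rw [scal_comm, mul_inv_cancel_right]

theorem det_diag (d : Fin 3 → Fˣ) :
    Matrix.GeneralLinearGroup.det (diagGL d) = d 0 * d 1 * d 2 := by
  apply Units.ext
  rw [Matrix.GeneralLinearGroup.val_det_apply, diagGL_coe, Matrix.det_diagonal]
  simp [Fin.prod_univ_three]

/-- Correcting a change of frame to determinant one. -/
theorem adjust (U : Subgroup (GL (Fin 3) F))
    (hC : ∀ G' ∈ U, ∀ H ∈ U, diagGL ![Matrix.GeneralLinearGroup.det H *
      (Matrix.GeneralLinearGroup.det G')⁻¹, 1, 1] ∈ U)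
    {x G' H n : GL (Fin 3) F} {d : Fin 3 → Fˣ} (hx : x * G' = G' * diagGL d)
    (hn : n * H = H * diagGL d) (hG' : G' ∈ U) (hH : H ∈ U) :
    ∃ g ∈ U ⊓ Cfsg.Geo.specialLinear (Fin 3) F, g⁻¹ * x * g = n := by
  obtain ⟨C, hCdef⟩ : ∃ C : GL (Fin 3) F, C = diagGL ![Matrix.GeneralLinearGroup.det H *
      (Matrix.GeneralLinearGroup.det G')⁻¹, 1, 1] := ⟨_, rfl⟩
  have hCU : C ∈ U := hCdef ▸ hC G' hG' H hH
  refine ⟨G' * C * H⁻¹, Subgroup.mem_inf.mpr ⟨mul_mem (mul_mem hG' hCU) (inv_mem hH), ?_⟩, ?_⟩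
  · show Matrix.GeneralLinearGroup.det (G' * C * H⁻¹) = 1
    rw [map_mul, map_mul, map_inv, hCdef, det_diag]
    simp [mul_assoc, mul_comm, mul_left_comm]
  · have hcomm : C⁻¹ * diagGL d * C = diagGL d := by
      rw [hCdef, ← map_inv, ← map_mul, ← map_mul, inv_mul_cancel_comm]
    calc (G' * C * H⁻¹)⁻¹ * x * (G' * C * H⁻¹) = H * C⁻¹ * G'⁻¹ * (x * G') * C * H⁻¹ := by group
      _ = H * C⁻¹ * G'⁻¹ * (G' * diagGL d) * C * H⁻¹ := by rw [hx]
      _ = H * (C⁻¹ * diagGL d * C) * H⁻¹ := by group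
      _ = H * diagGL d * H⁻¹ := by rw [hcomm]
      _ = n * H * H⁻¹ := by rw [hn]
      _ = n := by group

theorem exists_perm (σ : Equiv.Perm (Fin 3)) : ∃ P : GL (Fin 3) F,
    (P : Matrix (Fin 3) (Fin 3) F) = (1 : Matrix (Fin 3) (Fin 3) F).submatrix id σ ∧
      ∀ d : Fin 3 → Fˣ, diagGL d * P = P * diagGL (fun i => d (σ i)) := by
  obtain ⟨P, hP⟩ : ∃ P : GL (Fin 3) F,
      (P : Matrix (Fin 3) (Fin 3) F) = (1 : Matrix (Fin 3) (Fin 3) F).submatrix id σ :=
    ⟨Matrix.GeneralLinearGroup.mkOfDetNeZero ((1 : Matrix (Fin 3) (Fin 3) F).submatrix id σ)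
      (by
        rw [Matrix.det_permute', Matrix.det_one, mul_one]
        rcases Int.units_eq_one_or (Equiv.Perm.sign σ) with h | h <;> simp [h]), rfl⟩
  refine ⟨P, hP, fun d => Units.ext ?_⟩
  rw [Units.val_mul, Units.val_mul, diagGL_coe, diagGL_coe, hP]
  ext i j
  rw [Matrix.diagonal_mul, Matrix.mul_diagonal, Matrix.submatrix_apply, id_eq, Matrix.one_apply]
  by_cases h : i = σ j
  · rw [if_pos h, h, one_mul, mul_one]
  · rw [if_neg h, mul_zero, zero_mul]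

theorem sign_pattern (h2 : (2 : F) ≠ 0) (e : Fin 3 → Bool)
    (hprod : sgn F (e 0) * sgn F (e 1) * sgn F (e 2) = 1) (hne : ¬ ∀ i, e i = e 0) :
    ∃ σ : Equiv.Perm (Fin 3), ∀ i, e (σ i) = ![false, true, true] i := by
  have hneg : (-1 : Fˣ) ≠ 1 := fun h => h2 (by
    have h' := congrArg Units.val h
    simp only [Units.val_neg, Units.val_one] at h'
    linear_combination -h')
  have key : ∀ b0 b1 b2 : Bool, b0 = b1 ∧ b1 = b2 ∨
      (b0 = false ∧ b1 = true ∧ b2 = true) ∨ (b0 = true ∧ b1 = false ∧ b2 = true) ∨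
        (b0 = true ∧ b1 = true ∧ b2 = false) ∨
      ((b0 = true ∧ b1 = false ∧ b2 = false) ∨ (b0 = false ∧ b1 = true ∧ b2 = false) ∨
        (b0 = false ∧ b1 = false ∧ b2 = true)) := by decide
  rcases key (e 0) (e 1) (e 2) with ⟨h, h'⟩ | ⟨h, h', h''⟩ | ⟨h, h', h''⟩ | ⟨h, h', h''⟩ |
    (⟨h, h', h''⟩ | ⟨h, h', h''⟩ | ⟨h, h', h''⟩)
  · exact absurd (fun i => by fin_cases i <;> simp [h, h']) hne
  · exact ⟨1, fun i => by fin_cases i <;> simp [h, h', h'']⟩
  · exact ⟨Equiv.swap 0 1, fun i => by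
      fin_cases i <;> simp [h, h', h'', Equiv.swap_apply_of_ne_of_ne]⟩
  · exact ⟨Equiv.swap 0 2, fun i => by
      fin_cases i <;> simp [h, h', h'', Equiv.swap_apply_of_ne_of_ne]⟩
  all_goals
    exfalso
    rw [h, h', h''] at hprod
    exact hneg (by simpa [sgn] using hprod)

theorem triple_pattern : ∀ e : Fin 3 → Fin 3, (¬ ∀ i, e i = e 0) →
    (∃ σ : Equiv.Perm (Fin 3), ∀ i, e (σ i) = i) ∨
      (∃ σ : Equiv.Perm (Fin 3), ∃ j d : Fin 3, ∀ i, e (σ i) = ![j, j, j + d] i) := by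
  decide

theorem pw_add {l : Fˣ} (hl : l ^ 3 = 1) (j d : Fin 3) : pw l (j + d) = pw l j * pw l d := by
  rw [pw, pw, pw, ← pow_add, Fin.val_add, ← pow_eq_pow_mod _ hl]

theorem det_val {x : GL (Fin 3) F} (hx : x ∈ Cfsg.Geo.specialLinear (Fin 3) F) :
    (x : Matrix (Fin 3) (Fin 3) F).det = 1 := by
  have h : Matrix.GeneralLinearGroup.det x = 1 := hx
  exact congrArg Units.val h

theorem scalar_of_frame {y G' : GL (Fin 3) F} {t : Fˣ} (h : y * G' = G' * scal t) :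
    y = scal t := by
  rw [← scal_comm] at h
  exact mul_right_cancel h

section Main

variable {R U : Subgroup (GL (Fin 3) F)}

theorem le_specialLinear {l : F} (hl : l * l + l + 1 = 0) {a b G : GL (Fin 3) F}
    (hcl : Subgroup.closure ({a, b} : Set (GL (Fin 3) F)) = R)
    (hA : (a : Matrix (Fin 3) (Fin 3) F) * (G : Matrix (Fin 3) (Fin 3) F) = (G : Matrix (Fin 3) (Fin 3) F) * modA l)
    (hB : (b : Matrix (Fin 3) (Fin 3) F) * (G : Matrix (Fin 3) (Fin 3) F) = (G : Matrix (Fin 3) (Fin 3) F) * modS) :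
    R ≤ Cfsg.Geo.specialLinear (Fin 3) F := by
  have hl3 : l * l * l = 1 := by linear_combination (l - 1) * hl
  have key : ∀ (g : GL (Fin 3) F) (X : Matrix (Fin 3) (Fin 3) F),
      (g : Matrix (Fin 3) (Fin 3) F) * (G : Matrix (Fin 3) (Fin 3) F) = (G : Matrix (Fin 3) (Fin 3) F) * X →
      X.det = 1 → g ∈ Cfsg.Geo.specialLinear (Fin 3) F := by
    intro g X h hX
    show Matrix.GeneralLinearGroup.det g = 1
    apply Units.ext
    have h' := congrArg Matrix.det h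
    rw [Matrix.det_mul, Matrix.det_mul, hX, mul_one] at h'
    have hG : (G : Matrix (Fin 3) (Fin 3) F).det ≠ 0 := (Matrix.GeneralLinearGroup.det G).ne_zero
    rw [Matrix.GeneralLinearGroup.val_det_apply, Units.val_one]
    exact mul_eq_right₀ hG |>.mp h'
  rw [← hcl, Subgroup.closure_le]
  rintro g (rfl | rfl)
  · refine key _ _ hA ?_
    rw [modA, Matrix.det_diagonal, Fin.prod_univ_three]
    simp only [Fin.val_zero, Fin.val_one, Fin.val_two, pow_zero, pow_one, one_mul, pow_two]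
    rw [← mul_assoc]
    exact hl3
  · exact key _ _ hB (by simp [modS, Matrix.det_fin_three])

/-- An element whose square is scalar. -/
theorem conj_two {l : Fˣ} (hl : (l : F) * l + l + 1 = 0) (h2 : (2 : F) ≠ 0) (hR : Finite R)
    {a b G : GL (Fin 3) F} (ha : a ∈ R) (hb : b ∈ R)
    (hcl : Subgroup.closure ({a, b} : Set (GL (Fin 3) F)) = R)
    (hA : (a : Matrix (Fin 3) (Fin 3) F) * (G : Matrix (Fin 3) (Fin 3) F) = (G : Matrix (Fin 3) (Fin 3) F) * modA (l : F))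
    (hB : (b : Matrix (Fin 3) (Fin 3) F) * (G : Matrix (Fin 3) (Fin 3) F) = (G : Matrix (Fin 3) (Fin 3) F) * modS)
    (hG : G ∈ U)
    (hP : ∀ (σ : Equiv.Perm (Fin 3)) (P : GL (Fin 3) F),
      (P : Matrix (Fin 3) (Fin 3) F) = (1 : Matrix (Fin 3) (Fin 3) F).submatrix id σ → P ∈ U)
    (hC : ∀ G' ∈ U, ∀ H ∈ U, diagGL ![Matrix.GeneralLinearGroup.det H *
      (Matrix.GeneralLinearGroup.det G')⁻¹, 1, 1] ∈ U)
    (hS : ∀ t : Fˣ, t ^ 3 = 1 → scal t ∈ U)
    (hK : ∃ (c : F) (K : GL (Fin 3) F), K ∈ U ∧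
      (K : Matrix (Fin 3) (Fin 3) F) = !![0, 1, 0; c, 0, c; -c, 0, c])
    (hdiag : ∀ {ι : Type} (f : ι → Fˣ), (∀ i, f i ^ 6 = 1) → ∀ x ∈ U,
      Decomp (x : Matrix (Fin 3) (Fin 3) F) f →
        ∃ G' ∈ U, ∃ e : Fin 3 → ι, x * G' = G' * diagGL (fun i => f (e i)))
    {x : GL (Fin 3) F} (hx : x ∈ U ⊓ Cfsg.Geo.specialLinear (Fin 3) F) {z : F}
    (hz : ((x ^ 2 : GL (Fin 3) F) : Matrix (Fin 3) (Fin 3) F) = z • (1 : Matrix (Fin 3) (Fin 3) F))
    (hns : ∀ t : F, (x : Matrix (Fin 3) (Fin 3) F) ≠ t • (1 : Matrix (Fin 3) (Fin 3) F)) :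
    ∃ g ∈ U ⊓ Cfsg.Geo.specialLinear (Fin 3) F,
      g⁻¹ * x * g ∈ Cfsg.Geo.subgroupNormalizer R := by
  have hdx : (x : Matrix (Fin 3) (Fin 3) F).det = 1 := det_val hx.2
  have hz3 : z ^ 3 = 1 := by
    have h := congrArg Matrix.det hz
    rw [Units.val_pow_eq_pow_val, Matrix.det_pow, hdx, one_pow, Matrix.det_smul, Matrix.det_one,
      mul_one, Fintype.card_fin] at h
    exact h.symm
  obtain ⟨u, hu⟩ : ∃ u : Fˣ, (u : F) = z :=
    ⟨Units.mk0 z (fun h => by simp [h] at hz3), rfl⟩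
  have hu3 : u ^ 3 = 1 := Units.ext (by rw [Units.val_pow_eq_pow_val, hu, hz3, Units.val_one])
  have hx2 : x ^ 2 = scal u := Units.ext (by rw [hz, scal_coe, hu])
  obtain ⟨y, hy⟩ : ∃ y, y = scal u * x := ⟨_, rfl⟩
  have hyy : y * y = 1 := by
    calc y * y = scal u * (x * scal u) * x := by rw [hy]; group
      _ = scal u * (scal u * x) * x := by rw [scal_comm u x]
      _ = scal u * scal u * x ^ 2 := by rw [pow_two]; group
      _ = scal (u ^ 3) := by rw [hx2, ← map_mul, ← map_mul, pow_succ, pow_two]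
      _ = 1 := by rw [hu3, map_one]
  have hyU : y ∈ U := hy ▸ mul_mem (hS u hu3) hx.1
  obtain ⟨G', hG', e, he⟩ := hdiag (sgn F) (fun i => by
      cases i
      · simp [sgn]
      · simp [sgn, Even.neg_one_pow (by decide : Even 6)]) y hyU
    (dec_two h2 _ (by rw [← Units.val_mul, hyy, Units.val_one]))
  have hprod : sgn F (e 0) * sgn F (e 1) * sgn F (e 2) = 1 := by
    have h := congrArg Matrix.GeneralLinearGroup.det he
    rw [map_mul, map_mul, det_diag, mul_comm, mul_right_inj] at h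
    rw [← h, hy, map_mul, show Matrix.GeneralLinearGroup.det x = 1 from hx.2, mul_one]
    show Matrix.GeneralLinearGroup.det (diagGL fun _ => u) = 1
    rw [det_diag, ← hu3, pow_succ, pow_two]
  have hne : ¬ ∀ i, e i = e 0 := by
    intro h
    have hy' : y = scal (sgn F (e 0)) := scalar_of_frame (G' := G') (by
      rw [he, show (fun i => sgn F (e i)) = fun _ => sgn F (e 0) from funext fun i => by rw [h i]]
      rfl)
    refine hns ((u⁻¹ * sgn F (e 0) : Fˣ) : F) ?_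
    rw [← scal_coe, map_mul, ← hy', hy, map_inv, inv_mul_cancel_left]
  obtain ⟨σ, hσ⟩ := sign_pattern h2 e hprod hne
  obtain ⟨P, hPm, hPd⟩ := exists_perm (F := F) σ
  have hyP : y * (G' * P) = G' * P * diagGL (fun i => sgn F (e (σ i))) := by
    rw [← mul_assoc, he, mul_assoc, hPd, mul_assoc]
  obtain ⟨c, K, hKU, hKm⟩ := hK
  obtain ⟨D, hD⟩ : ∃ D, D = diagGL (fun i => sgn F (e (σ i))) := ⟨_, rfl⟩
  have hT : ((K * D * K⁻¹ : GL (Fin 3) F) : Matrix (Fin 3) (Fin 3) F) = modT := by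
    have h : (modT : Matrix (Fin 3) (Fin 3) F) * (K : Matrix (Fin 3) (Fin 3) F) =
        (K : Matrix (Fin 3) (Fin 3) F) * (D : Matrix (Fin 3) (Fin 3) F) := by
      rw [hD, diagGL_coe, hKm]
      ext i j
      rw [Matrix.mul_diagonal, hσ]
      fin_cases i <;> fin_cases j <;> simp [modT, sgn, Matrix.mul_apply, Fin.sum_univ_three]
    rw [Units.val_mul, Units.val_mul, ← h, Matrix.mul_assoc, ← Units.val_mul, mul_inv_cancel,
      Units.val_one, Matrix.mul_one]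
  obtain ⟨hnT, -, -⟩ := exists_norm_elements (G := G) hl hR ha hb hcl hA hB
  have hn := hnT _ hT
  obtain ⟨g, hg, hgn⟩ := adjust U hC (x := y) (G' := G' * P) (H := G * K)
    (n := G * (K * D * K⁻¹) * G⁻¹) hyP (by rw [← hD]; group) (mul_mem hG' (hP σ P hPm))
    (mul_mem hG hKU)
  refine ⟨g, hg, ?_⟩
  have : g⁻¹ * x * g = (scal u)⁻¹ * (g⁻¹ * y * g) := by
    calc g⁻¹ * x * g = g⁻¹ * ((scal u)⁻¹ * y) * g := by rw [hy, inv_mul_cancel_left]
      _ = (g⁻¹ * (scal u)⁻¹) * y * g := by group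
      _ = ((scal u)⁻¹ * g⁻¹) * y * g := by rw [← map_inv, scal_comm]
      _ = _ := by group
  rw [this, hgn]
  exact mul_mem (inv_mem (scal_mem_normalizer R u)) hn

/-- An element whose cube is scalar. -/
theorem conj_three {l : Fˣ} (hl : (l : F) * l + l + 1 = 0) (h3 : (3 : F) ≠ 0) (hR : Finite R)
    {a b G : GL (Fin 3) F} (ha : a ∈ R) (hb : b ∈ R)
    (hcl : Subgroup.closure ({a, b} : Set (GL (Fin 3) F)) = R)
    (hA : (a : Matrix (Fin 3) (Fin 3) F) * (G : Matrix (Fin 3) (Fin 3) F) = (G : Matrix (Fin 3) (Fin 3) F) * modA (l : F))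
    (hB : (b : Matrix (Fin 3) (Fin 3) F) * (G : Matrix (Fin 3) (Fin 3) F) = (G : Matrix (Fin 3) (Fin 3) F) * modS)
    (hG : G ∈ U)
    (hP : ∀ (σ : Equiv.Perm (Fin 3)) (P : GL (Fin 3) F),
      (P : Matrix (Fin 3) (Fin 3) F) = (1 : Matrix (Fin 3) (Fin 3) F).submatrix id σ → P ∈ U)
    (hC : ∀ G' ∈ U, ∀ H ∈ U, diagGL ![Matrix.GeneralLinearGroup.det H *
      (Matrix.GeneralLinearGroup.det G')⁻¹, 1, 1] ∈ U)
    (hcube : ∀ u : Fˣ, u ^ 3 = 1 → ∃ t : Fˣ, t ^ 3 = u ∧ scal t ∈ U)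
    (hdiag : ∀ {ι : Type} (f : ι → Fˣ), (∀ i, f i ^ 6 = 1) → ∀ x ∈ U,
      Decomp (x : Matrix (Fin 3) (Fin 3) F) f →
        ∃ G' ∈ U, ∃ e : Fin 3 → ι, x * G' = G' * diagGL (fun i => f (e i)))
    {x : GL (Fin 3) F} (hx : x ∈ U ⊓ Cfsg.Geo.specialLinear (Fin 3) F) {z : F}
    (hz : ((x ^ 3 : GL (Fin 3) F) : Matrix (Fin 3) (Fin 3) F) = z • (1 : Matrix (Fin 3) (Fin 3) F))
    (hns : ∀ t : F, (x : Matrix (Fin 3) (Fin 3) F) ≠ t • (1 : Matrix (Fin 3) (Fin 3) F)) :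
    ∃ g ∈ U ⊓ Cfsg.Geo.specialLinear (Fin 3) F,
      g⁻¹ * x * g ∈ Cfsg.Geo.subgroupNormalizer R := by
  have hdx : (x : Matrix (Fin 3) (Fin 3) F).det = 1 := det_val hx.2
  have hz3 : z ^ 3 = 1 := by
    have h := congrArg Matrix.det hz
    rw [Units.val_pow_eq_pow_val, Matrix.det_pow, hdx, one_pow, Matrix.det_smul, Matrix.det_one,
      mul_one, Fintype.card_fin] at h
    exact h.symm
  obtain ⟨u, hu⟩ : ∃ u : Fˣ, (u : F) = z :=
    ⟨Units.mk0 z (fun h => by simp [h] at hz3), rfl⟩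
  have hu3 : u ^ 3 = 1 := Units.ext (by rw [Units.val_pow_eq_pow_val, hu, hz3, Units.val_one])
  obtain ⟨t, ht, htU⟩ := hcube u hu3
  have hx3 : x ^ 3 = scal u := Units.ext (by rw [hz, scal_coe, hu])
  obtain ⟨y, hy⟩ : ∃ y, y = (scal t)⁻¹ * x := ⟨_, rfl⟩
  have hy3 : y ^ 3 = 1 := by
    have hc : Commute (scal t)⁻¹ x := Commute.inv_left (scal_comm t x)
    rw [hy, hc.mul_pow, hx3, inv_pow, ← map_pow, ht, inv_mul_cancel]
  have hyU : y ∈ U := hy ▸ mul_mem (inv_mem htU) hx.1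
  have hl3 : l ^ 3 = 1 := Units.ext (by
    rw [Units.val_pow_eq_pow_val, Units.val_one]
    linear_combination ((l : F) - 1) * hl)
  obtain ⟨G', hG', e, he⟩ := hdiag (pw l) (fun i => by
      rw [pw, ← pow_mul, mul_comm, pow_mul, show (6 : ℕ) = 3 * 2 from rfl, pow_mul, hl3, one_pow,
        one_pow]) y hyU
    (dec_three hl h3 _ (by
      rw [← Units.val_mul, ← Units.val_mul, ← pow_two, ← pow_succ, hy3, Units.val_one]))
  have hne : ¬ ∀ i, e i = e 0 := by
    intro h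
    have hy' : y = scal (pw l (e 0)) := scalar_of_frame (G' := G') (by
      rw [he, show (fun i => pw l (e i)) = fun _ => pw l (e 0) from funext fun i => by rw [h i]]
      rfl)
    refine hns ((t * pw l (e 0) : Fˣ) : F) ?_
    rw [← scal_coe, map_mul, ← hy', hy, mul_inv_cancel_left]
  obtain ⟨hnT, hnD, hnA⟩ := exists_norm_elements (G := G) hl hR ha hb hcl hA hB
  obtain ⟨σ, hσ⟩ : ∃ σ : Equiv.Perm (Fin 3),
      G * diagGL (fun i => pw l (e (σ i))) * G⁻¹ ∈ Cfsg.Geo.subgroupNormalizer R := by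
    rcases triple_pattern e hne with ⟨σ, h⟩ | ⟨σ, j, d, h⟩
    · refine ⟨σ, hnA _ ?_⟩
      rw [diagGL_coe, modA]
      congr 1
      funext i
      rw [h i, pw, Units.val_pow_eq_pow_val]
    · refine ⟨σ, ?_⟩
      have hd : diagGL (fun i => pw l (e (σ i))) = scal (pw l j) * diagGL ![1, 1, l] ^ (d : ℕ) := by
        rw [← map_pow]
        show _ = diagGL (fun _ => pw l j) * _
        rw [← map_mul]
        congr 1
        funext i
        rw [h i, Pi.mul_apply, Pi.pow_apply]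
        fin_cases i
        · simp
        · simp
        · simpa [pw] using pw_add hl3 j d
      rw [hd, ← mul_assoc, ← scal_comm, mul_assoc (scal _), mul_assoc (scal _), ← conj_pow]
      refine mul_mem (scal_mem_normalizer R _) (pow_mem (hnD _ ?_) _)
      rw [diagGL_coe, modD]
      congr 1
      funext i
      fin_cases i <;> simp
  obtain ⟨P, hPm, hPd⟩ := exists_perm (F := F) σ
  have hyP : y * (G' * P) = G' * P * diagGL (fun i => pw l (e (σ i))) := by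
    rw [← mul_assoc, he, mul_assoc, hPd, mul_assoc]
  obtain ⟨g, hg, hgn⟩ := adjust U hC (x := y) (G' := G' * P) (H := G) hyP
    (inv_mul_cancel_right _ G) (mul_mem hG' (hP σ P hPm)) hG
  refine ⟨g, hg, ?_⟩
  have : g⁻¹ * x * g = scal t * (g⁻¹ * y * g) := by
    calc g⁻¹ * x * g = g⁻¹ * (scal t * y) * g := by rw [hy, mul_inv_cancel_left]
      _ = (g⁻¹ * scal t) * y * g := by group
      _ = (scal t * g⁻¹) * y * g := by rw [scal_comm]
      _ = _ := by group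
  rw [this, hgn]
  exact mul_mem (scal_mem_normalizer R t) hσ

/-- The criterion, given the structure of the ambient group. -/
theorem fixes_point_iff [Finite F] {l : Fˣ} (hl : (l : F) * l + l + 1 = 0) (h2 : (2 : F) ≠ 0)
    (h3 : (3 : F) ≠ 0) (hR : Nat.card R = 27) (hna : ¬ IsMulCommutative R)
    {a b G : GL (Fin 3) F} (ha : a ∈ R) (hb : b ∈ R)
    (hcl : Subgroup.closure ({a, b} : Set (GL (Fin 3) F)) = R)
    (hA : (a : Matrix (Fin 3) (Fin 3) F) * (G : Matrix (Fin 3) (Fin 3) F) = (G : Matrix (Fin 3) (Fin 3) F) * modA (l : F))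
    (hB : (b : Matrix (Fin 3) (Fin 3) F) * (G : Matrix (Fin 3) (Fin 3) F) = (G : Matrix (Fin 3) (Fin 3) F) * modS)
    (hG : G ∈ U)
    (hP : ∀ (σ : Equiv.Perm (Fin 3)) (P : GL (Fin 3) F),
      (P : Matrix (Fin 3) (Fin 3) F) = (1 : Matrix (Fin 3) (Fin 3) F).submatrix id σ → P ∈ U)
    (hC : ∀ G' ∈ U, ∀ H ∈ U, diagGL ![Matrix.GeneralLinearGroup.det H *
      (Matrix.GeneralLinearGroup.det G')⁻¹, 1, 1] ∈ U)
    (hS : ∀ t : Fˣ, t ^ 3 = 1 → scal t ∈ U)
    (hK : ∃ (c : F) (K : GL (Fin 3) F), K ∈ U ∧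
      (K : Matrix (Fin 3) (Fin 3) F) = !![0, 1, 0; c, 0, c; -c, 0, c])
    (hdiag : ∀ {ι : Type} (f : ι → Fˣ), (∀ i, f i ^ 6 = 1) → ∀ x ∈ U,
      Decomp (x : Matrix (Fin 3) (Fin 3) F) f →
        ∃ G' ∈ U, ∃ e : Fin 3 → ι, x * G' = G' * diagGL (fun i => f (e i)))
    {r : ℕ} [hr : Fact r.Prime]
    (hcube : r = 3 → ∀ u : Fˣ, u ^ 3 = 1 → ∃ t : Fˣ, t ^ 3 = u ∧ scal t ∈ U)
    (hdvd : r ∣ (Cfsg.Geo.subgroupNormalizer R).relIndex (U ⊓ Cfsg.Geo.specialLinear (Fin 3) F)) :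
    (∀ x ∈ U ⊓ Cfsg.Geo.specialLinear (Fin 3) F,
      (∃ z : F, ((x ^ r : GL (Fin 3) F) : Matrix (Fin 3) (Fin 3) F) = z • (1 : Matrix (Fin 3) (Fin 3) F)) →
      (∀ z : F, (x : Matrix (Fin 3) (Fin 3) F) ≠ z • (1 : Matrix (Fin 3) (Fin 3) F)) →
      ∃ g ∈ U ⊓ Cfsg.Geo.specialLinear (Fin 3) F,
        g⁻¹ * x * g ∈ Cfsg.Geo.subgroupNormalizer R) ↔ (r = 2 ∨ r = 3) := by
  have hfin : Finite R := Nat.finite_of_card_ne_zero (by rw [hR]; norm_num)
  constructor
  · intro hall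
    by_contra hcon
    push Not at hcon
    have hr2 := hr.out.two_le
    have hr4 : r ≠ 4 := fun h => by
      have := hr.out
      rw [h] at this
      exact absurd this (by norm_num)
    have hr5 : 5 ≤ r := by omega
    obtain ⟨⟨x, hx⟩, hord⟩ := exists_prime_orderOf_dvd_card'
      (G := (U ⊓ Cfsg.Geo.specialLinear (Fin 3) F : Subgroup (GL (Fin 3) F))) r
      (hdvd.trans (Subgroup.index_dvd_card _))
    have hxr : x ^ r = 1 := by
      have h := congrArg Subtype.val (hord ▸ pow_orderOf_eq_one (⟨x, hx⟩ :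
        (U ⊓ Cfsg.Geo.specialLinear (Fin 3) F : Subgroup (GL (Fin 3) F))))
      simpa using h
    have hns : ∀ z : F, (x : Matrix (Fin 3) (Fin 3) F) ≠ z • (1 : Matrix (Fin 3) (Fin 3) F) := by
      intro z hz
      have h1 : z ^ 3 = 1 := by
        have h := det_val hx.2
        rwa [hz, Matrix.det_smul, Matrix.det_one, mul_one, Fintype.card_fin] at h
      have h2 : z ^ r = 1 := by
        have h := congrArg (fun g : GL (Fin 3) F => (g : Matrix (Fin 3) (Fin 3) F) 0 0) hxr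
        simpa [Units.val_pow_eq_pow_val, hz, smul_pow] using h
      have hz1 : z = 1 := by
        have h : z ^ Nat.gcd 3 r = 1 := pow_gcd_eq_one.mpr ⟨h1, h2⟩
        rwa [(Nat.coprime_primes Nat.prime_three hr.out).mpr (by omega), pow_one] at h
      have : x = 1 := Units.ext (by rw [hz, hz1, one_smul, Units.val_one])
      have h1' : orderOf (⟨x, hx⟩ :
          (U ⊓ Cfsg.Geo.specialLinear (Fin 3) F : Subgroup (GL (Fin 3) F))) = 1 :=
        orderOf_eq_one_iff.mpr (Subtype.ext this)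
      omega
    obtain ⟨g, -, hg⟩ := hall x hx ⟨1, by rw [hxr, Units.val_one, one_smul]⟩ hns
    obtain ⟨t, ht⟩ := normalizer_scalar (G := G) hl h3 hR hna ha hb hA hB hg hr5 (by
      rw [show g⁻¹ * x * g = g⁻¹ * x * (g⁻¹)⁻¹ by rw [inv_inv], conj_pow, hxr, mul_one,
        mul_inv_cancel])
    apply hns t
    have hxg : x = g * (g⁻¹ * x * g) * g⁻¹ := by group
    rw [hxg, Units.val_mul, Units.val_mul, ht, Matrix.mul_smul, Matrix.mul_one, Matrix.smul_mul,
      ← Units.val_mul, mul_inv_cancel, Units.val_one]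
  · rintro (rfl | rfl) x hx ⟨z, hz⟩ hns
    · exact conj_two hl h2 hfin ha hb hcl hA hB hG hP hC hS hK hdiag hx hz hns
    · exact conj_three hl h3 hfin ha hb hcl hA hB hG hP hC (hcube rfl) hdiag hx hz hns

theorem eighty_one_dvd (hR : Nat.card R = 27) {S : Subgroup (GL (Fin 3) F)} [Finite S] (hRS : R ≤ S)
    (hdvd : 3 ∣ (Cfsg.Geo.subgroupNormalizer R).relIndex S) : 81 ∣ Nat.card S := by
  have hle : R.subgroupOf S ≤ (Cfsg.Geo.subgroupNormalizer R).subgroupOf S := fun x hx =>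
    Subgroup.le_normalizer hx
  have h27 : 27 ∣ Nat.card ((Cfsg.Geo.subgroupNormalizer R).subgroupOf S) := by
    rw [← hR, ← Nat.card_congr (Subgroup.subgroupOfEquivOfLe hRS).toEquiv]
    exact Subgroup.card_dvd_of_le hle
  rw [← ((Cfsg.Geo.subgroupNormalizer R).subgroupOf S).index_mul_card]
  exact mul_dvd_mul hdvd h27

theorem exists_cube [Finite F] (h : 9 ∣ Nat.card Fˣ) (u : Fˣ) (hu : u ^ 3 = 1) :
    ∃ t : Fˣ, t ^ 3 = u ∧ t ^ 9 = 1 := by
  obtain ⟨w, hw⟩ := IsCyclic.exists_ofOrder_eq_natCard (α := Fˣ)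
  have h0 : 0 < Nat.card Fˣ := Nat.card_pos
  have h9 : orderOf (w ^ (Nat.card Fˣ / 9)) = 9 := by
    obtain ⟨m, hm⟩ := h
    rw [hm, Nat.mul_div_cancel_left _ (by norm_num), orderOf_pow, hw, hm]
    rw [Nat.gcd_mul_left_left, Nat.mul_div_cancel _ (by rw [hm] at h0; omega)]
  obtain ⟨v, hv⟩ : ∃ v, v = w ^ (Nat.card Fˣ / 9) := ⟨_, rfl⟩
  rw [← hv] at h9
  have hv9 : v ^ 9 = 1 := h9 ▸ pow_orderOf_eq_one v
  have hprim : IsPrimitiveRoot ((v ^ 3 : Fˣ) : F) 3 := by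
    rw [IsPrimitiveRoot.coe_units_iff]
    have h3 : orderOf (v ^ 3) = 3 := by rw [orderOf_pow, h9]; rfl
    have h' := IsPrimitiveRoot.orderOf (v ^ 3)
    rwa [h3] at h'
  obtain ⟨i, -, hi⟩ := hprim.eq_pow_of_pow_eq_one (ξ := (u : F))
    (by rw [← Units.val_pow_eq_pow_val, hu, Units.val_one])
  refine ⟨v ^ i, ?_, ?_⟩
  · apply Units.ext
    rw [← hi]
    push_cast
    rw [← pow_mul, ← pow_mul, mul_comm]
  · rw [← pow_mul, mul_comm, pow_mul, hv9, one_pow]

theorem exists_omega [Finite F] (h : 3 ∣ Nat.card Fˣ) :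
    ∃ w : F, w * w + w + 1 = 0 := by
  haveI : Fact (Nat.Prime 3) := ⟨Nat.prime_three⟩
  obtain ⟨v, hv⟩ := exists_prime_orderOf_dvd_card' (G := Fˣ) 3 h
  refine ⟨v, ?_⟩
  have h3 : (v : F) ^ 3 = 1 := by
    rw [← Units.val_pow_eq_pow_val, ← hv, pow_orderOf_eq_one, Units.val_one]
  have h1 : (v : F) - 1 ≠ 0 := fun h1 => by
    have : v = 1 := Units.ext (sub_eq_zero.mp h1)
    rw [this, orderOf_one] at hv
    omega
  exact (mul_eq_zero.mp (show ((v : F) - 1) * ((v : F) * v + v + 1) = 0 by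
    linear_combination h3)).resolve_left h1

end Main

end Cfsg.Agent.Extra27
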