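import Mathlib
import Cfsg.Prelude.Def_GeometricClasses
import Cfsg.Agent.Extra27.Conj

/-! The linear group of dimension three over a prime field with p ≡ 1 mod 3. -/

set_option autoImplicit false
set_option linter.style.haveILetI false

namespace Cfsg.Agent.Extra27

open Matrix Cfsg.Agent.Classical

variable {F : Type*} [Field F] [Fintype F]

theorem card_specialLinear {q : ℕ} (hF : Fintype.card F = q) :
    (q - 1) * Nat.card (Cfsg.Geo.specialLinear (Fin 3) F) =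
      (q ^ 3 - 1) * ((q ^ 3 - q) * (q ^ 3 - q ^ 2)) := by
  let e : SpecialLinearGroup (Fin 3) F ≃ Cfsg.Geo.specialLinear (Fin 3) F :=
    { toFun := fun g => ⟨Matrix.SpecialLinearGroup.toGL g, Units.ext g.2⟩
      invFun := fun g => ⟨g.1.1, det_val g.2⟩
      left_inv := fun g => rfl
      right_inv := fun g => Subtype.ext (Units.ext rfl) }
  rw [← Nat.card_congr e, card_sl_mul hF 3 (by norm_num), Fin.prod_univ_three]
  simp [mul_assoc]

theorem not_eighty_one {q N : ℕ} (h1 : q % 3 = 1) (h9 : q % 9 ≠ 1)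
    (h : (q - 1) * N = (q ^ 3 - 1) * ((q ^ 3 - q) * (q ^ 3 - q ^ 2))) : ¬ 81 ∣ N := by
  obtain ⟨k, rfl⟩ : ∃ k, q = 3 * k + 1 := ⟨q / 3, by omega⟩
  have hk : k % 3 ≠ 0 := by omega
  rintro ⟨m, rfl⟩
  set q := 3 * k + 1 with hq
  have e1 : q ^ 3 - 1 = 3 * k * (3 * (3 * k ^ 2 + 3 * k + 1)) := by
    rw [Nat.sub_eq_iff_eq_add (Nat.one_le_pow _ _ (by omega))]; rw [hq]; ring
  have e2 : q ^ 3 - q = q * (3 * k) * (3 * k + 2) := by
    rw [Nat.sub_eq_iff_eq_add (Nat.le_self_pow (by norm_num) _)]; rw [hq]; ring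
  have e3 : q ^ 3 - q ^ 2 = q ^ 2 * (3 * k) := by
    rw [Nat.sub_eq_iff_eq_add (Nat.pow_le_pow_right (by omega) (by norm_num))]; rw [hq]; ring
  rw [e1, e2, e3, show q - 1 = 3 * k by omega] at h
  have h2 : 3 * m = k ^ 2 * q ^ 3 * (3 * k + 2) * (3 * k ^ 2 + 3 * k + 1) := by
    have hk0 : 0 < 81 * k := by omega
    refine Nat.eq_of_mul_eq_mul_left hk0 ?_
    calc 81 * k * (3 * m) = 3 * k * (81 * m) := by ring
      _ = _ := h
      _ = _ := by ring
  have h3 : 3 ∣ k ^ 2 * q ^ 3 * (3 * k + 2) * (3 * k ^ 2 + 3 * k + 1) := ⟨m, h2.symm⟩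
  have hp := Nat.prime_three
  rcases hp.dvd_mul.mp h3 with h4 | h4
  · rcases hp.dvd_mul.mp h4 with h5 | h5
    · rcases hp.dvd_mul.mp h5 with h6 | h6
      · have := hp.dvd_of_dvd_pow h6; omega
      · have := hp.dvd_of_dvd_pow h6; omega
    · omega
  · omega

theorem linear_criterion {p : ℕ} [Fact p.Prime] [CharP F p] (hF : Fintype.card F = p) (hp3 : p % 3 = 1)
    (R : Subgroup (GL (Fin 3) F)) (hR : Nat.card R = 27) (hRe : Monoid.exponent R = 3)
    (hRna : ¬ IsMulCommutative R) (r : ℕ) [Fact r.Prime]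
    (hdvd : r ∣ (Cfsg.Geo.subgroupNormalizer R).relIndex (Cfsg.Geo.specialLinear (Fin 3) F)) :
    (∀ x ∈ Cfsg.Geo.specialLinear (Fin 3) F,
      (∃ z : F, ((x ^ r : GL (Fin 3) F) : Matrix (Fin 3) (Fin 3) F) = z • (1 : Matrix (Fin 3) (Fin 3) F)) →
      (∀ z : F, (x : Matrix (Fin 3) (Fin 3) F) ≠ z • (1 : Matrix (Fin 3) (Fin 3) F)) →
      ∃ g ∈ Cfsg.Geo.specialLinear (Fin 3) F, g⁻¹ * x * g ∈ Cfsg.Geo.subgroupNormalizer R) ↔
      (r = 2 ∨ (r = 3 ∧ p % 9 = 1)) := by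
  have hp : p.Prime := Fact.out
  have hp7 : 7 ≤ p := by
    by_contra h
    have : p = 4 ∨ p = 1 := by omega
    rcases this with rfl | rfl
    · exact absurd hp (by norm_num)
    · exact absurd hp (by norm_num)
  have hne : ∀ n : ℕ, 0 < n → n < p → (n : F) ≠ 0 := fun n h1 h2 h =>
    absurd (Nat.le_of_dvd h1 ((CharP.cast_eq_zero_iff F p n).mp h)) (by omega)
  have h2 : (2 : F) ≠ 0 := by exact_mod_cast hne 2 (by norm_num) (by omega)
  have h3 : (3 : F) ≠ 0 := by exact_mod_cast hne 3 (by norm_num) (by omega)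
  have hu : Nat.card Fˣ = p - 1 := by rw [Nat.card_units, Nat.card_eq_fintype_card, hF]
  obtain ⟨w, hw⟩ := exists_omega (F := F) (by rw [hu]; omega)
  obtain ⟨l, a, b, G, hl, ha, hb, hcl, hA, hB, -⟩ := exists_frame hw h3 hR hRe hRna
  obtain ⟨lu, rfl⟩ : ∃ lu : Fˣ, (lu : F) = l :=
    ⟨Units.mk0 l (fun h => by simp [h] at hl), rfl⟩
  have h9 : r = 3 → p % 9 = 1 := by
    intro hr
    by_contra hcon
    exact not_eighty_one hp3 hcon (card_specialLinear hF)
      (eighty_one_dvd hR (le_specialLinear hl hcl hA hB) (hr ▸ hdvd))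
  have hK : ∃ (c : F) (K : GL (Fin 3) F), K ∈ (⊤ : Subgroup (GL (Fin 3) F)) ∧
      (K : Matrix (Fin 3) (Fin 3) F) = !![0, 1, 0; c, 0, c; -c, 0, c] :=
    ⟨1, Matrix.GeneralLinearGroup.mkOfDetNeZero !![0, 1, 0; 1, 0, 1; -1, 0, 1]
      (by
        rw [Matrix.det_fin_three]
        simp
        intro h
        exact h2 (by linear_combination -h)), Subgroup.mem_top _, rfl⟩
  have key := fixes_point_iff (U := ⊤) (R := R) (r := r) (l := lu) hl h2 h3 hR hRna ha hb hcl hA hB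
    (Subgroup.mem_top _) (fun _ _ _ => Subgroup.mem_top _) (fun _ _ _ _ => Subgroup.mem_top _)
    (fun _ _ => Subgroup.mem_top _) hK
    (fun {ι} f _ x _ hx => by
      obtain ⟨G', e, he⟩ := exists_diag_of_dec f x hx
      exact ⟨G', Subgroup.mem_top _, e, he⟩)
    (fun hr u hu3 => by
      obtain ⟨t, ht, -⟩ := exists_cube (by rw [hu]; have := h9 hr; omega) u hu3
      exact ⟨t, ht, Subgroup.mem_top _⟩)
    (by rwa [top_inf_eq])
  rw [top_inf_eq] at key
  rw [key]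
  constructor
  · rintro (h | h)
    · exact Or.inl h
    · exact Or.inr ⟨h, h9 h⟩
  · rintro (h | ⟨h, -⟩)
    · exact Or.inl h
    · exact Or.inr h

end Cfsg.Agent.Extra27
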