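import Mathlib
import Cfsg.Prelude.Def_GeometricClasses
import Cfsg.Prelude.Def_LieClassical
import Cfsg.Agent.Extra27.Conj
import Cfsg.Agent.Classical.HermGroup

/-! The unitary group of dimension three over a prime with p ≡ 2 mod 3. -/

set_option autoImplicit false
set_option linter.style.haveILetI false

namespace Cfsg.Agent.Extra27

open Matrix Cfsg.Agent.Classical Cfsg.Agent.Classical.Herm

variable {F : Type*} [Field F] {σ : F →+* F}

theorem apply_map_eq {f g : F} (hf : σ f * f = 1) {v w : Fin 3 → F} {M : Matrix (Fin 3) (Fin 3) F}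
    (hM : ∀ u u', hermB 3 σ (M *ᵥ u) (M *ᵥ u') = hermB 3 σ u u')
    (hv : M *ᵥ v = f • v) (hw : M *ᵥ w = g • w) (hfg : f ≠ g) : hermB 3 σ v w = 0 := by
  have h := hM v w
  rw [hv, hw] at h
  simp only [map_smulₛₗ, LinearMap.smul_apply, smul_eq_mul, RingHom.id_apply] at h
  have h0 : (σ f * g - σ f * f) * hermB 3 σ v w = 0 := by rw [hf]; linear_combination h
  refine (mul_eq_zero.mp h0).resolve_left fun hc => ?_
  rw [← mul_sub] at hc
  have hf0 : σ f ≠ 0 := fun h => by rw [h, zero_mul] at hf; exact zero_ne_one hf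
  exact hfg (sub_eq_zero.mp ((mul_eq_zero.mp hc).resolve_left hf0)).symm

variable [Fintype F] (hσ : IsInvol σ)
include hσ

theorem exists_eigen_step {M : Matrix (Fin 3) (Fin 3) F}
    (hM : ∀ u u', hermB 3 σ (M *ᵥ u) (M *ᵥ u') = hermB 3 σ u u') {ι : Type} (f : ι → Fˣ)
    (hf : ∀ i, σ (f i : F) * (f i : F) = 1) (hdec : Decomp M f) {k : ℕ} {a : Fin k → Fin 3 → F}
    (ha : IsON (hermB 3 σ) a) (he : ∀ i, ∃ j, M *ᵥ a i = (f j : F) • a i) (hk : k < 3) :
    ∃ v, IsON (hermB 3 σ) (Fin.snoc a v : Fin (k + 1) → Fin 3 → F) ∧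
      ∃ j, M *ᵥ v = (f j : F) • v := by
  classical
  have hB := hermB_isHerm hσ 3
  obtain ⟨v0, hv0⟩ := exists_snoc hB ha (by rw [Module.finrank_fin_fun]; exact hk)
  let P : Submodule F (Fin 3 → F) := ⨅ i, LinearMap.ker (hermB 3 σ (a i))
  have hmem : ∀ x, x ∈ P ↔ ∀ i, hermB 3 σ (a i) x = 0 := fun x => by simp [P]
  have hv0P : v0 ∈ P := (hmem _).2 fun i => by
    have h := hv0 i.castSucc (Fin.last k)
    rwa [Fin.snoc_castSucc, Fin.snoc_last, if_neg (Fin.castSucc_lt_last i).ne] at h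
  have hv01 : hermB 3 σ v0 v0 = 1 := by simpa using hv0 (Fin.last k) (Fin.last k)
  have hPM : ∀ x ∈ P, M *ᵥ x ∈ P := fun x hx => (hmem _).2 fun i => by
    obtain ⟨j, hj⟩ := he i
    have h := hM (a i) x
    rw [hj] at h
    simp only [map_smulₛₗ, LinearMap.smul_apply, smul_eq_mul, (hmem x).1 hx i] at h
    exact (mul_eq_zero.mp h).resolve_left fun hc => by
      have := hf j
      rw [hc, zero_mul] at this
      exact zero_ne_one this
  obtain ⟨u, w, ⟨huP, ju, hu⟩, ⟨hwP, jw, hw⟩, hne⟩ : ∃ u w,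
      (u ∈ P ∧ ∃ j, M *ᵥ u = (f j : F) • u) ∧ (w ∈ P ∧ ∃ j, M *ᵥ w = (f j : F) • w) ∧
        hermB 3 σ u w ≠ 0 := by
    by_contra hcon
    push Not at hcon
    have hspan := hdec P hPM v0 hv0P
    have h1 : ∀ u, (u ∈ P ∧ ∃ j, M *ᵥ u = (f j : F) • u) → hermB 3 σ v0 u = 0 := by
      intro u hu
      have hle : Submodule.span F {v | v ∈ P ∧ ∃ j, M *ᵥ v = (f j : F) • v} ≤
          LinearMap.ker (hermB 3 σ u) := Submodule.span_le.2 fun w hw => hcon u w hu hw
      exact (eq_zero_comm hB).1 (hle hspan)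
    have h2 : hermB 3 σ v0 v0 = 0 :=
      (Submodule.span_le.2 (fun w hw => h1 w hw) :
        Submodule.span F {v | v ∈ P ∧ ∃ j, M *ᵥ v = (f j : F) • v} ≤
          LinearMap.ker (hermB 3 σ v0)) hspan
    rw [hv01] at h2
    exact one_ne_zero h2
  have hsame : (f ju : F) = f jw := by
    by_contra h
    exact hne (apply_map_eq (hf ju) hM hu hw h)
  obtain ⟨v, hvE, hv⟩ := exists_anisotropic hB
    (P ⊓ LinearMap.ker (M.mulVecLin - (f ju : F) • LinearMap.id))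
    ⟨u, ⟨huP, by simp [hu]⟩, w, ⟨hwP, by simp [hw, hsame]⟩, hne⟩
  obtain ⟨c, hc⟩ := exists_unit_of_ne_zero hB hv
  have hvM : M *ᵥ v = (f ju : F) • v := by
    have h := hvE.2
    simpa [sub_eq_zero] using h
  refine ⟨c • v, fun i j => ?_, ju, by rw [Matrix.mulVec_smul, hvM, smul_comm]⟩
  have hperp : ∀ i, hermB 3 σ (a i) (c • v) = 0 := fun i => by
    rw [map_smul, (hmem v).1 hvE.1 i, smul_zero]
  refine Fin.lastCases ?_ (fun i => ?_) i <;> refine Fin.lastCases ?_ (fun j => ?_) j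
  · simpa using hc
  · rw [Fin.snoc_castSucc, Fin.snoc_last, if_neg (Fin.castSucc_lt_last j).ne',
      (eq_zero_comm hB).1 (hperp j)]
  · rw [Fin.snoc_castSucc, Fin.snoc_last, if_neg (Fin.castSucc_lt_last i).ne, hperp i]
  · simpa using ha i j

theorem exists_eigen_frame {M : Matrix (Fin 3) (Fin 3) F}
    (hM : ∀ u u', hermB 3 σ (M *ᵥ u) (M *ᵥ u') = hermB 3 σ u u') {ι : Type} (f : ι → Fˣ)
    (hf : ∀ i, σ (f i : F) * (f i : F) = 1) (hdec : Decomp M f) :
    ∀ k ≤ 3, ∃ a : Fin k → Fin 3 → F,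
      IsON (hermB 3 σ) a ∧ ∀ i, ∃ j, M *ᵥ a i = (f j : F) • a i := by
  intro k
  induction k with
  | zero => exact fun _ => ⟨Fin.elim0, fun i => i.elim0, fun i => i.elim0⟩
  | succ k ih =>
    intro hk
    obtain ⟨a, ha, he⟩ := ih (by omega)
    obtain ⟨v, hv, hve⟩ := exists_eigen_step hσ hM f hf hdec ha he (by omega)
    refine ⟨Fin.snoc a v, hv, fun i => ?_⟩
    refine Fin.lastCases ?_ (fun i => ?_) i
    · simpa using hve
    · simpa using he i

variable {q : ℕ} (hσq : ∀ x, σ x = x ^ q)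
include hσq

omit [Fintype F] hσ in
theorem norm_one {t : Fˣ} {n : ℕ} (ht : t ^ n = 1) (hn : n ∣ q + 1) : (t : F) * σ t = 1 := by
  obtain ⟨m, hm⟩ := hn
  rw [hσq, ← pow_succ', ← Units.val_pow_eq_pow_val, hm, pow_mul, ht, one_pow, Units.val_one]

omit [Fintype F] hσ in
theorem mem_GU_of_cols (g : GL (Fin 3) F)
    (h : IsON (hermB 3 σ) fun j => (g : Matrix (Fin 3) (Fin 3) F).col j) : g ∈ Cfsg.GU 3 F q := by
  refine (mem_GU_iff hσq g).2 ((preserves_iff_cols _).2 ?_)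
  intro i j
  simpa [Matrix.mulVec_single] using h i j

theorem exists_unitary_diag {ι : Type} (f : ι → Fˣ) (hf : ∀ i, (f i : F) * σ (f i : F) = 1)
    {x : GL (Fin 3) F} (hx : x ∈ Cfsg.GU 3 F q)
    (hdec : Decomp (x : Matrix (Fin 3) (Fin 3) F) f) :
    ∃ G' ∈ Cfsg.GU 3 F q, ∃ e : Fin 3 → ι, x * G' = G' * diagGL (fun i => f (e i)) := by
  classical
  obtain ⟨a, ha, he⟩ := exists_eigen_frame hσ ((mem_GU_iff hσq x).1 hx) f
    (fun i => by rw [mul_comm]; exact hf i) hdec 3 le_rfl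
  choose e he using he
  have hu : IsUnit ((Matrix.of a)ᵀ) := by
    rw [← Matrix.linearIndependent_cols_iff_isUnit]
    exact ha.linearIndependent (hermB_isHerm hσ 3)
  refine ⟨hu.unit, mem_GU_of_cols hσq _ ?_, e, Units.ext ?_⟩
  · rw [hu.unit_spec]
    exact ha
  · rw [Units.val_mul, Units.val_mul, diagGL_coe]
    ext i j
    rw [Matrix.mul_diagonal, hu.unit_spec]
    show ((x : Matrix (Fin 3) (Fin 3) F) *ᵥ a j) i = a j i * (f (e j) : F)
    rw [he j, Pi.smul_apply, smul_eq_mul, mul_comm]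

/-- Scaling the monomial frame to a unitary one. -/
theorem unitary_frame {l : F} (hl : l * l + l + 1 = 0) (h3 : (3 : F) ≠ 0) (hln : σ l * l = 1)
    {a b G : GL (Fin 3) F} (ha : a ∈ Cfsg.GU 3 F q) (hb : b ∈ Cfsg.GU 3 F q)
    (hA : (a : Matrix (Fin 3) (Fin 3) F) * (G : Matrix (Fin 3) (Fin 3) F) = (G : Matrix (Fin 3) (Fin 3) F) * modA l)
    (hB : (b : Matrix (Fin 3) (Fin 3) F) * (G : Matrix (Fin 3) (Fin 3) F) = (G : Matrix (Fin 3) (Fin 3) F) * modS)
    (hcol : ∀ i, (G : Matrix (Fin 3) (Fin 3) F).col i =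
      ((b : Matrix (Fin 3) (Fin 3) F) ^ (i : ℕ)) *ᵥ (G : Matrix (Fin 3) (Fin 3) F).col 0) :
    ∃ H ∈ Cfsg.GU 3 F q,
      (a : Matrix (Fin 3) (Fin 3) F) * (H : Matrix (Fin 3) (Fin 3) F) = (H : Matrix (Fin 3) (Fin 3) F) * modA l ∧
      (b : Matrix (Fin 3) (Fin 3) F) * (H : Matrix (Fin 3) (Fin 3) F) = (H : Matrix (Fin 3) (Fin 3) F) * modS := by
  classical
  have hHm := hermB_isHerm hσ 3
  obtain ⟨g, hg⟩ : ∃ g : Fin 3 → Fin 3 → F,
      g = fun i => (G : Matrix (Fin 3) (Fin 3) F).col i := ⟨_, rfl⟩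
  have hgA : ∀ i, (a : Matrix (Fin 3) (Fin 3) F) *ᵥ g i = l ^ (i : ℕ) • g i := by
    intro i
    funext k
    have h := congrFun (congrFun hA k) i
    rw [modA, Matrix.mul_diagonal] at h
    rw [hg, Pi.smul_apply, smul_eq_mul]
    show ((a : Matrix (Fin 3) (Fin 3) F) * (G : Matrix (Fin 3) (Fin 3) F)) k i = _
    rw [h, mul_comm]
    rfl
  have hl1 : l ≠ 1 := by
    intro h
    rw [h] at hl
    exact h3 (by linear_combination hl)
  have hl3 : l * l * l = 1 := by linear_combination (l - 1) * hl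
  have hinj : ∀ i j : Fin 3, i ≠ j → l ^ (i : ℕ) ≠ l ^ (j : ℕ) := by
    have hl0 : l ≠ 0 := fun h => by rw [h, zero_mul, zero_mul] at hl3; exact zero_ne_one hl3
    have hl2 : l * l ≠ 1 := fun h => hl1 (by linear_combination hl3 - l * h)
    intro i j hij he
    fin_cases i <;> fin_cases j <;> simp [pow_two] at hij he ⊢
    · exact hl1 he.symm
    · exact hl2 he.symm
    · exact hl1 he
    · exact hl1 (mul_left_cancel₀ hl0 (he.symm.trans (mul_one l).symm))
    · exact hl2 he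
    · exact hl1 (mul_left_cancel₀ hl0 (he.trans (mul_one l).symm))
  have hperp : ∀ i j, i ≠ j → hermB 3 σ (g i) (g j) = 0 := fun i j hij =>
    apply_map_eq (by rw [map_pow, ← mul_pow, hln, one_pow]) ((mem_GU_iff hσq a).1 ha)
      (hgA i) (hgA j) (hinj i j hij)
  have hsame : ∀ i, hermB 3 σ (g i) (g i) = hermB 3 σ (g 0) (g 0) := by
    intro i
    have hpow := (mem_GU_iff hσq (b ^ (i : ℕ))).1 (pow_mem hb _) (g 0) (g 0)
    rw [Units.val_pow_eq_pow_val] at hpow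
    rw [hg] at hpow ⊢
    simp only [← hcol i] at hpow
    exact hpow
  have hN : hermB 3 σ (g 0) (g 0) ≠ 0 := by
    intro h0
    have hlin : LinearIndependent F g := by
      rw [hg]
      exact Matrix.linearIndependent_cols_iff_isUnit.2 G.isUnit
    have hspan : Submodule.span F (Set.range g) = ⊤ :=
      hlin.span_eq_top_of_card_eq_finrank' (by rw [Fintype.card_fin, Module.finrank_fin_fun])
    apply hlin.ne_zero 0
    refine hHm.nondeg _ fun y => ?_
    have hle : Submodule.span F (Set.range g) ≤ LinearMap.ker (hermB 3 σ (g 0)) := by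
      refine Submodule.span_le.2 ?_
      rintro _ ⟨i, rfl⟩
      by_cases hi : (0 : Fin 3) = i
      · rw [← hi]; exact h0
      · exact hperp 0 i hi
    exact hle (hspan ▸ Submodule.mem_top)
  obtain ⟨c, hc⟩ := exists_unit_of_ne_zero hHm hN
  have hc0 : c ≠ 0 := fun h => by simp [h] at hc
  refine ⟨G * scal (Units.mk0 c hc0), mem_GU_of_cols hσq _ ?_, ?_, ?_⟩
  · have hcols : ∀ i, ((G * scal (Units.mk0 c hc0) : GL (Fin 3) F) :
        Matrix (Fin 3) (Fin 3) F).col i = c • g i := by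
      intro i
      rw [Units.val_mul, scal_coe, Matrix.mul_smul, Matrix.mul_one, hg]
      rfl
    intro i j
    simp only [hcols]
    by_cases hij : i = j
    · subst hij
      rw [if_pos rfl, smul_self hHm, hsame, ← smul_self hHm, hc]
    · rw [if_neg hij]
      simp [hperp i j hij]
  · rw [Units.val_mul, ← Matrix.mul_assoc, hA, scal_coe]
    simp
  · rw [Units.val_mul, ← Matrix.mul_assoc, hB, scal_coe]
    simp

omit [Fintype F] hσ in
theorem perm_mem_GU (π : Equiv.Perm (Fin 3)) (P : GL (Fin 3) F)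
    (hP : (P : Matrix (Fin 3) (Fin 3) F) = (1 : Matrix (Fin 3) (Fin 3) F).submatrix id π) :
    P ∈ Cfsg.GU 3 F q := by
  refine mem_GU_of_cols hσq _ ?_
  intro i j
  have hcol : ∀ j, (P : Matrix (Fin 3) (Fin 3) F).col j = Pi.single (π j) 1 := by
    intro j
    funext k
    rw [hP]
    simp [Matrix.col, Matrix.one_apply, Pi.single_apply]
  simp only [hcol]
  rw [isON_single 3 (π i) (π j)]
  simp

theorem not_eighty_one_unitary (hq : Nat.card (fixField σ) = q) (h2 : q % 3 = 2) (h9 : q % 9 ≠ 8) :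
    ¬ 81 ∣ Nat.card (Cfsg.GU 3 F q ⊓ Cfsg.Geo.specialLinear (Fin 3) F : Subgroup (GL (Fin 3) F)) := by
  have hcardGU : Nat.card (Cfsg.GU 3 F q) = q ^ 3 * ((q + 1) * ((q ^ 2 - 1) * (q ^ 3 + 1))) := by
    rw [card_GU_formula hσ hσq hq]
    simp [Finset.prod_range_succ, mul_assoc]
  let e : Cfsg.SU 3 F q ≃
      (Cfsg.GU 3 F q ⊓ Cfsg.Geo.specialLinear (Fin 3) F : Subgroup (GL (Fin 3) F)) :=
    { toFun := fun g => ⟨Matrix.SpecialLinearGroup.toGL g.1,
        Subgroup.mem_inf.mpr ⟨(mem_GU_iff hσq _).2 ((mem_SU_iff hσq g.1).1 g.2), Units.ext g.1.2⟩⟩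
      invFun := fun g => ⟨⟨g.1.1, det_val (Subgroup.mem_inf.mp g.2).2⟩,
        (mem_SU_iff hσq _).2 ((mem_GU_iff hσq _).1 (Subgroup.mem_inf.mp g.2).1)⟩
      left_inv := fun g => rfl
      right_inv := fun g => Subtype.ext (Units.ext rfl) }
  have h := card_SU_mul_eq_GU (n := 3) hσ hσq hq (by norm_num)
  rw [hcardGU, Nat.card_congr e] at h
  rintro ⟨m, hm⟩
  rw [hm] at h
  obtain ⟨k, rfl⟩ : ∃ k, q = 3 * k + 2 := ⟨q / 3, by omega⟩
  set q := 3 * k + 2 with hqdef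
  have e2 : q ^ 2 - 1 = 3 * (k + 1) * (3 * k + 1) := by
    rw [Nat.sub_eq_iff_eq_add (Nat.one_le_pow _ _ (by omega))]; rw [hqdef]; ring
  have e3 : q ^ 3 + 1 = 3 * (k + 1) * (3 * (3 * k ^ 2 + 3 * k + 1)) := by rw [hqdef]; ring
  rw [e2, e3, show q + 1 = 3 * (k + 1) by omega] at h
  have h4 : 3 * m = q ^ 3 * ((k + 1) ^ 2 * (3 * k + 1) * (3 * k ^ 2 + 3 * k + 1)) := by
    refine Nat.eq_of_mul_eq_mul_left (show 0 < 81 * (k + 1) by omega) ?_
    calc 81 * (k + 1) * (3 * m) = 3 * (k + 1) * (81 * m) := by ring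
      _ = _ := h
      _ = _ := by ring
  have hp := Nat.prime_three
  rcases hp.dvd_mul.mp (show 3 ∣ q ^ 3 * ((k + 1) ^ 2 * (3 * k + 1) * (3 * k ^ 2 + 3 * k + 1))
    from ⟨m, h4.symm⟩) with h5 | h5
  · have := hp.dvd_of_dvd_pow h5; omega
  · rcases hp.dvd_mul.mp h5 with h6 | h6
    · rcases hp.dvd_mul.mp h6 with h7 | h7
      · have := hp.dvd_of_dvd_pow h7; omega
      · omega
    · omega

omit hσ hσq in
theorem unitary_criterion {p : ℕ} [Fact p.Prime] [CharP F p] (hF : Fintype.card F = p ^ 2)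
    (hp : 5 ≤ p) (hp3 : p % 3 = 2) (R : Subgroup (GL (Fin 3) F)) (hRU : R ≤ Cfsg.GU 3 F p)
    (hR : Nat.card R = 27) (hRe : Monoid.exponent R = 3) (hRna : ¬ IsMulCommutative R)
    (r : ℕ) [Fact r.Prime]
    (hdvd : r ∣ (Cfsg.Geo.subgroupNormalizer R).relIndex
      (Cfsg.GU 3 F p ⊓ Cfsg.Geo.specialLinear (Fin 3) F)) :
    (∀ x ∈ Cfsg.GU 3 F p ⊓ Cfsg.Geo.specialLinear (Fin 3) F,
      (∃ z : F, ((x ^ r : GL (Fin 3) F) : Matrix (Fin 3) (Fin 3) F) = z • (1 : Matrix (Fin 3) (Fin 3) F)) →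
      (∀ z : F, (x : Matrix (Fin 3) (Fin 3) F) ≠ z • (1 : Matrix (Fin 3) (Fin 3) F)) →
      ∃ g ∈ Cfsg.GU 3 F p ⊓ Cfsg.Geo.specialLinear (Fin 3) F,
        g⁻¹ * x * g ∈ Cfsg.Geo.subgroupNormalizer R) ↔ (r = 2 ∨ (r = 3 ∧ p % 9 = 8)) := by
  obtain ⟨σ, hσq, hσ, hq, -⟩ := exists_powHom hF
  have hne : ∀ n : ℕ, 0 < n → n < p → (n : F) ≠ 0 := fun n h1 h2 h =>
    absurd (Nat.le_of_dvd h1 ((CharP.cast_eq_zero_iff F p n).mp h)) (by omega)
  have h2 : (2 : F) ≠ 0 := by exact_mod_cast hne 2 (by norm_num) (by omega)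
  have h3 : (3 : F) ≠ 0 := by exact_mod_cast hne 3 (by norm_num) (by omega)
  have hu : Nat.card Fˣ = p ^ 2 - 1 := by rw [Nat.card_units, Nat.card_eq_fintype_card, hF]
  have hdiv : p + 1 ∣ p ^ 2 - 1 := ⟨p - 1, by rw [← Nat.sq_sub_sq, one_pow]⟩
  have hp31 : 3 ∣ p + 1 := by omega
  have hp61 : 6 ∣ p + 1 := by
    obtain ⟨m, hm⟩ := (Fact.out : p.Prime).odd_of_ne_two (by omega)
    omega
  obtain ⟨w, hw⟩ := exists_omega (F := F) (by rw [hu]; exact hp31.trans hdiv)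
  obtain ⟨l, a, b, G, hl, ha, hb, hcl, hA, hB, hcol⟩ := exists_frame hw h3 hR hRe hRna
  obtain ⟨lu, rfl⟩ : ∃ lu : Fˣ, (lu : F) = l :=
    ⟨Units.mk0 l (fun h => by simp [h] at hl), rfl⟩
  have hlu : lu ^ 3 = 1 := Units.ext (by
    rw [Units.val_pow_eq_pow_val, Units.val_one]
    linear_combination ((lu : F) - 1) * hl)
  obtain ⟨H, hH, hHA, hHB⟩ := unitary_frame hσ hσq hl h3
    (by rw [mul_comm]; exact norm_one hσq hlu hp31) (hRU ha) (hRU hb) hA hB hcol
  have h9 : r = 3 → p % 9 = 8 := by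
    intro hr
    by_contra hcon
    exact not_eighty_one_unitary hσ hσq hq hp3 hcon
      (eighty_one_dvd hR (le_inf hRU (le_specialLinear hl hcl hA hB)) (hr ▸ hdvd))
  have hscal : ∀ t : Fˣ, (t : F) * σ t = 1 → scal t ∈ Cfsg.GU 3 F p :=
    fun t ht => diag_mem hσq _ fun _ => ht
  have hK : ∃ (c : F) (K : GL (Fin 3) F), K ∈ Cfsg.GU 3 F p ∧
      (K : Matrix (Fin 3) (Fin 3) F) = !![0, 1, 0; c, 0, c; -c, 0, c] := by
    obtain ⟨c, hc⟩ := exists_norm hσ (a := (2 : F)⁻¹) (by rw [map_inv₀, map_ofNat])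
    have hc0 : c ≠ 0 := fun h => by simp [h] at hc; exact h2 hc.symm
    have hc2 : 2 * (c * σ c) = 1 := by rw [hc, mul_inv_cancel₀ h2]
    refine ⟨c, Matrix.GeneralLinearGroup.mkOfDetNeZero !![0, 1, 0; c, 0, c; -c, 0, c] ?_, ?_, rfl⟩
    · rw [Matrix.det_fin_three]
      simp
      intro h
      exact mul_ne_zero h2 (mul_ne_zero hc0 hc0) (by linear_combination -h)
    · refine mem_GU_of_cols hσq _ ?_
      intro i j
      rw [hermB_apply, Fin.sum_univ_three]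
      fin_cases i <;> fin_cases j <;> simp [Matrix.col] <;>
        first
          | ring1
          | linear_combination hc2
  have key := fixes_point_iff (U := Cfsg.GU 3 F p) (R := R) (r := r) (l := lu) hl h2 h3 hR hRna
    ha hb hcl hHA hHB hH (fun π P hP => perm_mem_GU hσq π P hP)
    (fun G' hG' K hK' => by
      refine diag_mem hσq _ fun i => ?_
      fin_cases i
      · show ((Matrix.GeneralLinearGroup.det K * (Matrix.GeneralLinearGroup.det G')⁻¹ : Fˣ) : F) *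
          σ ((Matrix.GeneralLinearGroup.det K * (Matrix.GeneralLinearGroup.det G')⁻¹ : Fˣ) : F) = 1
        rw [Units.val_mul, Units.val_inv_eq_inv_val, map_mul, map_inv₀, mul_mul_mul_comm,
          ← mul_inv, Matrix.GeneralLinearGroup.val_det_apply,
          Matrix.GeneralLinearGroup.val_det_apply, det_norm_GU hσq hK', det_norm_GU hσq hG',
          inv_one, mul_one]
      · simp
      · simp)
    (fun t ht => hscal t (norm_one hσq ht hp31)) hK
    (fun {ι} f hf x hx hdec =>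
      exists_unitary_diag hσ hσq f (fun i => norm_one hσq (hf i) hp61) hx hdec)
    (fun hr u hu3 => by
      have h91 : 9 ∣ p + 1 := by have := h9 hr; omega
      obtain ⟨t, ht, ht9⟩ := exists_cube (by rw [hu]; exact h91.trans hdiv) u hu3
      exact ⟨t, ht, hscal t (norm_one hσq ht9 h91)⟩)
    hdvd
  rw [key]
  constructor
  · rintro (h | h)
    · exact Or.inl h
    · exact Or.inr ⟨h, h9 h⟩
  · rintro (h | ⟨h, -⟩)
    · exact Or.inl h
    · exact Or.inr h

end Cfsg.Agent.Extra27
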